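import Mathlib
import Cfsg.Agent.Lib.BNPair.Steinberg
import Cfsg.Agent.Lib.Characters.Kernel

/-!
The Steinberg character of a split (B,N)-pair; passage to normal subgroups and central quotients.
-/

set_option autoImplicit false

namespace Cfsg.Agent.Lib.ClassicalBN

open Cfsg.Agent.Lib.BNPair
open scoped Classical

universe u

variable {G : Type u} [Group G]

/-- A (B,N)-pair split over a p-subgroup which is moved off the Borel subgroup by some element of N. -/
structure Split (P : Cfsg.BNPair G) (p : ℕ) (U : Subgroup G) : Prop where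
  pgroup : IsPGroup p U
  le : U ≤ P.B
  normal : ∀ b ∈ P.B, ∀ u ∈ U, b * u * b⁻¹ ∈ U
  decomp : ∀ b ∈ P.B, ∃ u ∈ U, ∃ t ∈ P.B ⊓ P.N, b = u * t
  torus : ¬ p ∣ Nat.card ↥(P.B ⊓ P.N)
  opp : ∃ n ∈ P.N, ∀ u ∈ U, n⁻¹ * u * n ∈ P.B → u = 1

variable {P : Cfsg.BNPair G} {p : ℕ} {U : Subgroup G}

theorem Split.isTop [hN : ((P.B ⊓ P.N).subgroupOf P.N).Normal] (S : Split P p U) {n : G} (hn : n ∈ P.N)
    (hopp : ∀ u ∈ U, n⁻¹ * u * n ∈ P.B → u = 1) :
    (exchangeData P).IsTop (QuotientGroup.mk (⟨n, hn⟩ : P.N)) := by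
  intro s
  obtain ⟨w, hw⟩ : ∃ w : Weyl P, w = QuotientGroup.mk (⟨n, hn⟩ : P.N) := ⟨_, rfl⟩
  rw [← hw]
  rw [show (exchangeData P).gen s = wgen P s from rfl]
  refine lt_of_le_of_ne (le_of_not_gt fun hgt => ?_) (len_mul_wgen_ne P s w)
  have hle : (exchangeData P).len (w * wgen P s) ≤ (exchangeData P).len w + 1 := by
    have h1 := (exchangeData P).len_mul_le w (wgen P s)
    have h2 := (exchangeData P).len_le [s]
    have h3 : (List.map (exchangeData P).gen [s]).prod = wgen P s := by simp; rfl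
    rw [h3] at h2
    simp only [List.length_singleton] at h2
    omega
  have hs1 : (exchangeData P).len (wgen P s) = 1 := by
    have hg := (exchangeData P).ne_one s
    have h2 : (exchangeData P).len (wgen P s) ≤ 1 := by
      have := (exchangeData P).len_le [s]
      rw [show (List.map (exchangeData P).gen [s]).prod = wgen P s by simp; rfl] at this
      simpa using this
    rcases Nat.eq_zero_or_pos ((exchangeData P).len (wgen P s)) with h0 | h0
    · exact absurd ((exchangeData P).eq_one_of_len_eq_zero h0) hg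
    · omega
  have hadd : (exchangeData P).len (w * wgen P s) = (exchangeData P).len w + (exchangeData P).len (wgen P s) := by
    omega
  have hne : w * wgen P s ≠ w := fun e => (exchangeData P).ne_one s (mul_eq_left.1 e)
  have hnc : n ∈ cell P w := by rw [hw]; exact mem_cell_mk P ⟨n, hn⟩
  have hsc : (s : G) ∈ cell P (wgen P s) := mem_cell_mk P ⟨(s : G), P.subset s.2⟩
  obtain ⟨b₀, hb₀, h0⟩ := exists_not_fix P s.2
  obtain ⟨b, hb, hbn⟩ : ∃ b ∈ P.B, (s : G)⁻¹ * b * s ∉ P.B := by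
    refine ⟨(s * s) * b₀, mul_mem (P.sq_mem s s.2) hb₀, fun h => s_not_mem P s.2 ?_⟩
    have e : (s : G)⁻¹ * (s * s * b₀) * s = s * b₀ * s := by group
    rw [e] at h
    have h1 := cong_of_mem_dc P (one_mem _) (P.subset s.2) ((dc_one P).2 h) h0
    simpa [Cong] using h1
  -- the cell of `n s` is one orbit of `U`
  have hx : n * b * (s : G) ∈ cell P (w * wgen P s) :=
    cell_mul P hadd (cell_mul_right P hb hnc) hsc
  have hns : n * (s : G) ∈ cell P (w * wgen P s) := cell_mul P hadd hnc hsc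
  have hcell : cell P (w * wgen P s) = dc P (n * (s : G)) :=
    (dc_eq_of_mem P hns).symm
  rw [hcell] at hx
  obtain ⟨a, ha, c, hc, hac⟩ := (mem_dc P).1 hx
  obtain ⟨u, hu, t, ht, rfl⟩ := S.decomp a ha
  obtain ⟨c', hc', hc'e⟩ : ∃ c' ∈ P.B, u⁻¹ * n * b = n * ((s : G) * c' * (s : G)⁻¹) := by
    refine ⟨((n * s)⁻¹ * t * (n * s)) * c, mul_mem (t_conj' P (mul_mem hn (P.subset s.2)) ht.1 ht.2) hc, ?_⟩
    calc u⁻¹ * n * b = u⁻¹ * (n * b * s) * (s : G)⁻¹ := by group
      _ = _ := by rw [hac]; group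
  have hl : u⁻¹ * n * b ∈ cell P w := cell_mul_right P hb (cell_mul_left P (inv_mem (S.le hu)) hnc)
  have hconj : (s : G) * c' * (s : G)⁻¹ ∈ P.B ∨ (s : G) * c' * (s : G)⁻¹ ∈ dc P s := by
    have h1 : (s : G) * c' * (s : G)⁻¹ = s * c' * s * (s * s : G)⁻¹ := by group
    rw [h1]
    rcases mem_union P s.2 (s_mem P s.2) hc' with h | h
    · rw [dc_eq_of_cong P (cong_ss P s.2), dc_one] at h
      exact .inl (mul_mem h (inv_mem (P.sq_mem s s.2)))
    · exact .inr (dc_mul_right P (inv_mem (P.sq_mem s s.2)) h)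
  rcases hconj with h | h
  swap
  · have h2 : n * ((s : G) * c' * (s : G)⁻¹) ∈ cell P (w * wgen P s) :=
      cell_mul P hadd hnc (show _ ∈ dc P (wrep P _) from (dc_eq_of_mem P hsc) ▸ h)
    exact hne (cell_inj P h2 (hc'e ▸ hl))
  have hu1 : u⁻¹ = 1 := hopp _ (inv_mem hu) (by
    have e : n⁻¹ * u⁻¹ * n = ((s : G) * c' * (s : G)⁻¹) * b⁻¹ := by
      calc n⁻¹ * u⁻¹ * n = n⁻¹ * (u⁻¹ * n * b) * b⁻¹ := by group
        _ = _ := by rw [hc'e]; group
    rw [e]; exact mul_mem h (inv_mem hb))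
  rw [hu1, one_mul] at hc'e
  refine hbn ?_
  have e : (s : G)⁻¹ * b * s = c' := by
    rw [mul_left_cancel hc'e]; group
  rw [e]; exact hc'

theorem Split.exists_steinberg [Finite G] [Fact p.Prime] (S : Split P p U) :
    ∃ χ : G → ℂ, Cfsg.IsIrrCharacter G χ ∧
      ∀ Q : Sylow p G, χ 1 = Nat.card Q ∧ ∀ x : G, x ∈ Q → x ≠ 1 → χ x = 0 := by
  haveI hN : ((P.B ⊓ P.N).subgroupOf P.N).Normal := weyl_normal P
  haveI := Fintype.ofFinite G
  haveI := Fintype.ofFinite P.S
  haveI := Fintype.ofFinite (Weyl P)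
  obtain ⟨n, hn, hopp⟩ := S.opp
  have hirr := stein_isIrr P
  have htop := S.isTop hn hopp
  have hcomm : ∀ t ∈ P.B ⊓ P.N, n⁻¹ * t * n ∈ P.B := fun t ht => t_conj' P hn ht.1 ht.2
  have hval : ∀ b ∈ U, stein P b = if b = 1 then (Nat.card U : ℂ) else 0 := by
    intro b hb
    rw [stein_borel P (S.le hb) htop]
    let f : U → {c : G ⧸ P.B // InCell P (QuotientGroup.mk (⟨n, hn⟩ : P.N)) c} := fun u =>
      ⟨QuotientGroup.mk ((u : G) * n), (u : G) * n,
        cell_mul_left P (S.le u.2) (mem_cell_mk P ⟨n, hn⟩), rfl⟩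
    have hf : Function.Bijective f := by
      constructor
      · intro u v h
        have h1 := QuotientGroup.eq.1 (congrArg Subtype.val h)
        have h2 := hopp _ (mul_mem (inv_mem u.2) v.2) (by
          rw [show n⁻¹ * ((u : G)⁻¹ * v) * n = ((u : G) * n)⁻¹ * (v * n) by group]; exact h1)
        exact Subtype.ext (inv_mul_eq_one.1 h2)
      · rintro ⟨c, g, hg, rfl⟩
        rw [cell_mk] at hg
        obtain ⟨a, ha, d, hd, rfl⟩ := (mem_dc P).1 hg
        obtain ⟨u, hu, t, ht, rfl⟩ := S.decomp a ha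
        refine ⟨⟨u, hu⟩, Subtype.ext (QuotientGroup.eq.2 ?_)⟩
        have e : (u * n)⁻¹ * (u * t * n * d) = n⁻¹ * t * n * d := by group
        show (u * n)⁻¹ * (u * t * n * d) ∈ P.B
        rw [e]
        exact mul_mem (hcomm t ht) hd
    have hfix : ∀ u : U, b • (f u).1 = (f u).1 ↔ b = 1 := by
      intro u
      constructor
      · intro h
        have h1 : ((b * ((u : G) * n))⁻¹ * ((u : G) * n)) ∈ P.B :=
          QuotientGroup.eq.1 (h : (QuotientGroup.mk (b * ((u : G) * n)) : G ⧸ P.B) = QuotientGroup.mk ((u : G) * n))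
        have h2 := hopp _ (mul_mem (mul_mem (inv_mem u.2) (inv_mem hb)) u.2) (by
          rw [show n⁻¹ * ((u : G)⁻¹ * b⁻¹ * u) * n = (b * ((u : G) * n))⁻¹ * ((u : G) * n) by group]; exact h1)
        have : b⁻¹ = 1 := by
          calc b⁻¹ = (u : G) * ((u : G)⁻¹ * b⁻¹ * u) * (u : G)⁻¹ := by group
            _ = 1 := by rw [h2]; group
        simpa using this
      · rintro rfl
        rw [one_smul]
    unfold cellFix
    split_ifs with hb1
    · congr 1
      refine Nat.card_congr (Equiv.trans ?_ (Equiv.ofBijective f hf).symm)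
      exact Equiv.subtypeEquivRight fun c => ⟨fun h => h.1, fun h => ⟨h, by rw [hb1, one_smul]⟩⟩
    · rw [Nat.cast_eq_zero, Nat.card_eq_zero]
      left
      refine ⟨fun ⟨c, hc, hfc⟩ => ?_⟩
      obtain ⟨u, hu⟩ := hf.2 ⟨c, hc⟩
      have : (f u).1 = c := congrArg Subtype.val hu
      exact hb1 ((hfix u).1 (by rw [this]; exact hfc))
  have hnorm : ∀ g : G, (∀ b ∈ P.B, g * b * g⁻¹ ∈ P.B) → g ∈ P.B := fun g => mem_of_conj_le P le_rfl
  -- `U` is a Sylow subgroup
  have hidx : ¬ p ∣ P.B.index := by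
    have h1 := IsPGroup.card_modEq_card_fixedPoints (α := G ⧸ P.B) S.pgroup
    have h2 : Nat.card (MulAction.fixedPoints U (G ⧸ P.B)) = 1 := by
      rw [Nat.card_eq_one_iff_unique]
      refine ⟨⟨fun a b => ?_⟩, ⟨⟨QuotientGroup.mk (1 : G), fun u => ?_⟩⟩⟩
      swap
      · show (QuotientGroup.mk ((u : G) * 1) : G ⧸ P.B) = QuotientGroup.mk 1
        exact QuotientGroup.eq.2 (by simpa using inv_mem (S.le u.2))
      suffices ∀ c : MulAction.fixedPoints U (G ⧸ P.B), (c : G ⧸ P.B) = QuotientGroup.mk 1 by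
        exact Subtype.ext ((this a).trans (this b).symm)
      rintro ⟨c, hc⟩
      induction c using QuotientGroup.induction_on with
      | _ g =>
      refine QuotientGroup.eq.2 ?_
      rw [mul_one]
      refine hnorm _ fun x hx => ?_
      obtain ⟨m, hm, hgm⟩ := bruhat P g
      obtain ⟨a, ha, d, hd, rfl⟩ := (mem_dc P).1 hgm
      obtain ⟨u, hu, t, ht, rfl⟩ := S.decomp x hx
      have h3 : ∀ v ∈ U, (a * m * d)⁻¹ * v * (a * m * d) ∈ P.B := fun v hv => by
        have := QuotientGroup.eq.1 (hc ⟨v⁻¹, inv_mem hv⟩ :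
          (QuotientGroup.mk (v⁻¹ * (a * m * d)) : G ⧸ P.B) = QuotientGroup.mk (a * m * d))
        have e : (a * m * d)⁻¹ * v * (a * m * d) = (v⁻¹ * (a * m * d))⁻¹ * (a * m * d) := by group
        rw [e]; exact this
      have e : (a * m * d)⁻¹ * (u * t) * ((a * m * d)⁻¹)⁻¹ =
          ((a * m * d)⁻¹ * u * (a * m * d)) * ((a * m * d)⁻¹ * t * (a * m * d)) := by group
      rw [e]
      refine mul_mem (h3 u hu) ?_
      obtain ⟨v, hv, t', ht', hvt⟩ := S.decomp (a⁻¹ * t * a) (mul_mem (mul_mem (inv_mem ha) ht.1) ha)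
      have h4 := h3 (a * v * a⁻¹) (S.normal a ha v hv)
      have e2 : (a * m * d)⁻¹ * t * (a * m * d) =
          ((a * m * d)⁻¹ * (a * v * a⁻¹) * (a * m * d)) * (d⁻¹ * (m⁻¹ * t' * m) * d) := by
        have : t = a * (v * t') * a⁻¹ := by rw [← hvt]; group
        rw [this]; group
      rw [e2]
      exact mul_mem h4 (mul_mem (mul_mem (inv_mem hd) (t_conj' P hm ht'.1 ht'.2)) hd)
    rw [h2] at h1
    intro hd
    rw [Subgroup.index_eq_card] at hd
    exact (Fact.out : p.Prime).one_lt.ne' (Nat.dvd_one.1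
      ((Nat.modEq_zero_iff_dvd).1 (h1.symm.trans (Nat.modEq_zero_iff_dvd.2 hd))))
  have hcardB : Nat.card P.B = Nat.card U * Nat.card ↥(P.B ⊓ P.N) := by
    rw [← Nat.card_prod]
    refine (Nat.card_congr (Equiv.ofBijective (fun x : U × ↥(P.B ⊓ P.N) =>
      (⟨(x.1 : G) * x.2, mul_mem (S.le x.1.2) x.2.2.1⟩ : P.B)) ⟨?_, ?_⟩)).symm
    · rintro ⟨u, t⟩ ⟨v, s⟩ h
      have h1 : (u : G) * t = v * s := congrArg Subtype.val h
      have h2 : ((v : G)⁻¹ * u) = s * (t : G)⁻¹ := by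
        calc (v : G)⁻¹ * u = (v : G)⁻¹ * (u * t) * (t : G)⁻¹ := by group
          _ = _ := by rw [h1]; group
      have h3 := hopp _ (mul_mem (inv_mem v.2) u.2) (h2 ▸ hcomm _ (mul_mem s.2 (inv_mem t.2)))
      have e1 : (u : G) = v := (inv_mul_eq_one.1 h3).symm
      refine Prod.ext (Subtype.ext e1) (Subtype.ext ?_)
      rw [e1] at h1
      exact mul_left_cancel h1
    · rintro ⟨b, hb⟩
      obtain ⟨u, hu, t, ht, rfl⟩ := S.decomp b hb
      exact ⟨⟨⟨u, hu⟩, ⟨t, ht⟩⟩, rfl⟩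
  have hUidx : ¬ p ∣ U.index := by
    have h1 := Subgroup.card_mul_index U
    have h2 := Subgroup.card_mul_index P.B
    rw [hcardB, ← h1, mul_assoc] at h2
    rw [← Nat.eq_of_mul_eq_mul_left Nat.card_pos h2]
    exact fun h => ((Fact.out : p.Prime).dvd_mul.1 h).elim S.torus hidx
  refine ⟨stein P, hirr, fun Q => ?_⟩
  obtain ⟨Q₀, hQ₀⟩ : ∃ Q₀ : Sylow p G, (Q₀ : Subgroup G) = U :=
    ⟨S.pgroup.toSylow hUidx, IsPGroup.toSylow_coe _ _⟩
  have hcQ : Nat.card Q = Nat.card U := by rw [Sylow.card_eq_multiplicity, ← hQ₀, ← Sylow.card_eq_multiplicity]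
  refine ⟨by rw [hval 1 (one_mem U), if_pos rfl, hcQ], fun x hx hx1 => ?_⟩
  obtain ⟨g, hg⟩ := MulAction.exists_smul_eq G Q Q₀
  have hgx : g * x * g⁻¹ ∈ U := by
    rw [← hQ₀, ← hg]
    exact Sylow.coe_subgroup_smul (g := g) (P := Q) ▸ Subgroup.smul_mem_pointwise_smul x (MulAut.conj g) _ hx
  rw [← Cfsg.Agent.Lib.Characters.IsCharacter.conj_apply (Cfsg.Agent.Lib.Characters.IsIrrCharacter.isCharacter hirr) x g, hval _ hgx, if_neg]
  exact fun h => hx1 (conj_eq_one_iff.1 h)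

end Cfsg.Agent.Lib.ClassicalBN
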