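import Mathlib
import Cfsg.Agent.Lib.ClassicalBN.Split

/-!
A split (B,N)-pair descends to normal subgroups containing the unipotent radical and to central quotients.
-/

set_option autoImplicit false

namespace Cfsg.Agent.Lib.ClassicalBN

open Cfsg.Agent.Lib.BNPair

universe u v

variable {G : Type u} [Group G]

section Quot

variable {Q : Type v} [Group Q] (φ : G →* Q)

theorem mem_of_map {H : Subgroup G} (hker : φ.ker ≤ H) {x : G} (h : φ x ∈ H.map φ) : x ∈ H := by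
  have h' : x ∈ (H.map φ).comap φ := h
  rw [Subgroup.comap_map_eq, sup_eq_left.2 hker] at h'
  exact h'

/-- The image of a (B,N)-pair. -/
def mapPair (P : Cfsg.BNPair G) (hφ : Function.Surjective φ) (hker : φ.ker ≤ P.B) : Cfsg.BNPair Q where
  B := P.B.map φ
  N := P.N.map φ
  S := φ '' P.S
  sup_eq_top := by rw [← Subgroup.map_sup, P.sup_eq_top, Subgroup.map_top_of_surjective φ hφ]
  conj_mem := by
    rintro _ ⟨n, hn, rfl⟩ _ ⟨⟨b, hb, rfl⟩, m, hm, hmb⟩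
    have hmB : m ∈ P.B := mem_of_map φ hker (hmb ▸ ⟨b, hb, rfl⟩)
    exact ⟨n * m * n⁻¹, P.conj_mem n hn m ⟨hmB, hm⟩, by rw [map_mul, map_mul, map_inv, hmb]⟩
  subset := by
    rintro _ ⟨s, hs, rfl⟩
    exact ⟨s, P.subset hs, rfl⟩
  sq_mem := by
    rintro _ ⟨s, hs, rfl⟩
    exact ⟨s * s, P.sq_mem s hs, map_mul φ s s⟩
  inj := by
    rintro _ ⟨s, hs, rfl⟩ _ ⟨s', hs', rfl⟩ h
    rw [← map_inv, ← map_mul] at h
    rw [P.inj s hs s' hs' (mem_of_map φ hker h)]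
  closure_sup := by
    refine le_antisymm (sup_le ((Subgroup.closure_le _).2 ?_) inf_le_right) ?_
    · rintro _ ⟨s, hs, rfl⟩
      exact ⟨s, P.subset hs, rfl⟩
    · rintro _ ⟨n, hn, rfl⟩
      have h := Subgroup.mem_map_of_mem φ (P.closure_sup.ge hn)
      rw [Subgroup.map_sup, MonoidHom.map_closure] at h
      refine SetLike.le_def.1 (sup_le_sup_left ?_ _) h
      exact le_inf (Subgroup.map_mono inf_le_left) (Subgroup.map_mono inf_le_right)
  mul_mem_union := by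
    rintro _ ⟨s, hs, rfl⟩ _ ⟨n, hn, rfl⟩ _ ⟨b, hb, rfl⟩
    rcases P.mul_mem_union s hs n hn b hb with h | h <;>
      obtain ⟨a, ha, c, hc, e⟩ := DoubleCoset.mem_doubleCoset.1 h
    · left
      refine DoubleCoset.mem_doubleCoset.2 ⟨φ a, ⟨a, ha, rfl⟩, φ c, ⟨c, hc, rfl⟩, ?_⟩
      rw [← map_mul, ← map_mul, e]; simp
    · right
      refine DoubleCoset.mem_doubleCoset.2 ⟨φ a, ⟨a, ha, rfl⟩, φ c, ⟨c, hc, rfl⟩, ?_⟩
      rw [← map_mul, ← map_mul, e]; simp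
  conj_ne := by
    rintro _ ⟨s, hs, rfl⟩ h
    refine P.conj_ne s hs (Set.eq_of_subset_of_subset ?_ ?_)
    · rintro _ ⟨b, hb, rfl⟩
      refine mem_of_map φ hker ?_
      have := h.subset ⟨φ b, ⟨b, hb, rfl⟩, rfl⟩
      simpa using this
    · intro x hx
      obtain ⟨_, ⟨b, hb, rfl⟩, hyx⟩ := h.symm.subset (⟨x, hx, rfl⟩ : φ x ∈ P.B.map φ)
      dsimp only at hyx
      have hk : (s * b * s)⁻¹ * x ∈ φ.ker := by
        rw [MonoidHom.mem_ker, map_mul, map_inv, map_mul, map_mul, hyx, inv_mul_cancel]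
      refine ⟨b * (s * ((s * b * s)⁻¹ * x) * s⁻¹), mul_mem hb (hker ?_), by group⟩
      exact φ.normal_ker.conj_mem _ hk s

theorem Split.map {P : Cfsg.BNPair G} {p : ℕ} {U : Subgroup G} [Finite G] (S : Split P p U)
    (hφ : Function.Surjective φ) (hker : φ.ker ≤ P.B) : Split (mapPair φ P hφ hker) p (U.map φ) := by
  refine ⟨S.pgroup.map φ, Subgroup.map_mono S.le, ?_, ?_, ?_, ?_⟩
  · rintro _ ⟨b, hb, rfl⟩ _ ⟨u, hu, rfl⟩
    exact ⟨b * u * b⁻¹, S.normal b hb u hu, by simp⟩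
  · rintro _ ⟨b, hb, rfl⟩
    obtain ⟨u, hu, t, ht, rfl⟩ := S.decomp b hb
    exact ⟨φ u, ⟨u, hu, rfl⟩, φ t, ⟨⟨t, ht.1, rfl⟩, ⟨t, ht.2, rfl⟩⟩, map_mul φ u t⟩
  · have e : P.B.map φ ⊓ P.N.map φ ≤ (P.B ⊓ P.N).map φ := by
      rintro _ ⟨⟨b, hb, rfl⟩, m, hm, hmb⟩
      exact ⟨m, ⟨mem_of_map φ hker (hmb ▸ ⟨b, hb, rfl⟩), hm⟩, hmb⟩
    exact fun h => S.torus ((h.trans (Subgroup.card_dvd_of_le e)).trans (Subgroup.card_map_dvd _ φ))
  · obtain ⟨n, hn, hopp⟩ := S.opp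
    refine ⟨φ n, ⟨n, hn, rfl⟩, ?_⟩
    rintro _ ⟨u, hu, rfl⟩ h
    rw [← map_inv, ← map_mul, ← map_mul] at h
    rw [hopp u hu (mem_of_map φ hker h), map_one]

end Quot

section Normal

variable {P : Cfsg.BNPair G} {p : ℕ} {U : Subgroup G} (S : Split P p U) (Y : Subgroup G) [hY : Y.Normal] (hUY : U ≤ Y)
include S hUY

theorem exists_rep {s : G} (hs : s ∈ P.S) : ∃ r ∈ Y, r ∈ P.N ∧ Cong P s r := by
  by_cases hall : ∀ u ∈ U, s⁻¹ * u * s ∈ P.B
  · exfalso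
    obtain ⟨b₀, hb₀, h0⟩ := exists_not_fix P hs
    obtain ⟨u, hu, t, ht, hut⟩ := S.decomp ((s * s) * b₀) (mul_mem (P.sq_mem s hs) hb₀)
    have h1 : s * b₀ * s ∈ P.B := by
      have e : s * b₀ * s = (s⁻¹ * u * s) * (s⁻¹ * t * s) := by
        calc s * b₀ * s = s⁻¹ * (s * s * b₀) * s := by group
          _ = _ := by rw [hut]; group
      rw [e]; exact mul_mem (hall u hu) (t_conj' P (P.subset hs) ht.1 ht.2)
    exact s_not_mem P hs (by simpa [Cong] using cong_of_mem_dc P (one_mem _) (P.subset hs) ((dc_one P).2 h1) h0)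
  push Not at hall
  obtain ⟨u, hu, hnot⟩ := hall
  have hy : s⁻¹ * u * s ∈ Y := by simpa using hY.conj_mem u (hUY hu) s⁻¹
  have hd : s⁻¹ * u * s ∈ dc P s := by
    have e : s⁻¹ * u * s = (s * s)⁻¹ * (s * u * s) := by group
    rw [e]
    refine dc_mul_left P (inv_mem (P.sq_mem s hs)) ?_
    rcases mem_union P hs (s_mem P hs) (S.le hu) with h | h
    · rw [dc_eq_of_cong P (cong_ss P hs), dc_one] at h
      exact absurd (by rw [e]; exact mul_mem (inv_mem (P.sq_mem s hs)) h) hnot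
    · exact h
  obtain ⟨a, ha, d, hd, hy'⟩ := (mem_dc P).1 hd
  obtain ⟨u₁, hu₁, t₁, ht₁, rfl⟩ := S.decomp a ha
  obtain ⟨u₂, hu₂, t₂, ht₂, hd'⟩ := S.decomp d⁻¹ (inv_mem hd)
  have hd2 : d = t₂⁻¹ * u₂⁻¹ := by rw [← inv_inv d, hd', mul_inv_rev]
  refine ⟨t₁ * s * t₂⁻¹, ?_, mul_mem (mul_mem ht₁.2 (P.subset hs)) (inv_mem ht₂.2), ?_⟩
  · have e : t₁ * s * t₂⁻¹ = u₁⁻¹ * (s⁻¹ * u * s) * u₂ := by rw [hy', hd2]; group
    rw [e]; exact mul_mem (mul_mem (inv_mem (hUY hu₁)) hy) (hUY hu₂)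
  · show s⁻¹ * (t₁ * s * t₂⁻¹) ∈ P.B
    have e : s⁻¹ * (t₁ * s * t₂⁻¹) = (s⁻¹ * t₁ * s) * t₂⁻¹ := by group
    rw [e]; exact mul_mem (t_conj' P (P.subset hs) ht₁.1 ht₁.2) (inv_mem ht₂.1)

/-- The chosen representative in the normal subgroup. -/
noncomputable def rep (s : P.S) : G := (exists_rep S Y hUY s.2).choose

theorem rep_spec (s : P.S) : rep S Y hUY s ∈ Y ∧ rep S Y hUY s ∈ P.N ∧ Cong P s (rep S Y hUY s) :=
  (exists_rep S Y hUY s.2).choose_spec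

theorem exists_word_rep {n : G} (hn : n ∈ P.N) :
    ∃ k ∈ Subgroup.closure (Set.range (rep S Y hUY)), k ∈ Y ∧ k ∈ P.N ∧ Cong P k n := by
  obtain ⟨w, hw, hc⟩ := exists_word P hn
  suffices ∀ w : List G, IsWord P.S w →
      ∃ k ∈ Subgroup.closure (Set.range (rep S Y hUY)), k ∈ Y ∧ k ∈ P.N ∧ Cong P w.prod k by
    obtain ⟨k, hk, hkY, hkN, hwk⟩ := this w hw
    exact ⟨k, hk, hkY, hkN, cong_trans P (cong_symm P hwk) hc⟩
  intro w
  induction w with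
  | nil => exact fun _ => ⟨1, one_mem _, one_mem _, one_mem _, cong_refl P _⟩
  | cons s w ih =>
    intro hw
    obtain ⟨k, hk, hkY, hkN, hwk⟩ := ih fun x hx => hw x (List.mem_cons_of_mem _ hx)
    have hs : s ∈ P.S := hw s (List.mem_cons_self ..)
    obtain ⟨hrY, hrN, hr⟩ := rep_spec S Y hUY ⟨s, hs⟩
    refine ⟨rep S Y hUY ⟨s, hs⟩ * k, mul_mem (Subgroup.subset_closure ⟨_, rfl⟩) hk, mul_mem hrY hkY, mul_mem hrN hkN, ?_⟩
    rw [List.prod_cons]
    exact cong_trans P (cong_left P s hwk) (cong_right P (P.subset hs) hrN hkN hr)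

theorem dc_restrict {m : G} (hmY : m ∈ Y) (hm : m ∈ P.N) {y : Y} (h : (y : G) ∈ dc P m) :
    y ∈ DoubleCoset.doubleCoset (⟨m, hmY⟩ : Y) (P.B.subgroupOf Y : Set Y) (P.B.subgroupOf Y) := by
  obtain ⟨a, ha, d, hd, hy⟩ := (mem_dc P).1 h
  obtain ⟨u₁, hu₁, t₁, ht₁, rfl⟩ := S.decomp a ha
  obtain ⟨u₂, hu₂, t₂, ht₂, hd'⟩ := S.decomp d⁻¹ (inv_mem hd)
  have hd2 : d = t₂⁻¹ * u₂⁻¹ := by rw [← inv_inv d, hd', mul_inv_rev]
  have ht : m⁻¹ * t₁ * m * t₂⁻¹ ∈ Y := by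
    have e : m⁻¹ * t₁ * m * t₂⁻¹ = m⁻¹ * (u₁⁻¹ * y * u₂) := by rw [hy, hd2]; group
    rw [e]; exact mul_mem (inv_mem hmY) (mul_mem (mul_mem (inv_mem (hUY hu₁)) y.2) (hUY hu₂))
  refine DoubleCoset.mem_doubleCoset.2 ⟨⟨u₁, hUY hu₁⟩, S.le hu₁,
    ⟨m⁻¹ * t₁ * m * t₂⁻¹ * u₂⁻¹, mul_mem ht (inv_mem (hUY hu₂))⟩,
    mul_mem (mul_mem (t_conj' P hm ht₁.1 ht₁.2) (inv_mem ht₂.1)) (inv_mem (S.le hu₂)), Subtype.ext ?_⟩
  show (y : G) = u₁ * m * (m⁻¹ * t₁ * m * t₂⁻¹ * u₂⁻¹)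
  rw [hy, hd2]; group

/-- The (B,N)-pair of the normal subgroup. -/
noncomputable def restrictPair : Cfsg.BNPair Y where
  B := P.B.subgroupOf Y
  N := P.N.subgroupOf Y
  S := Set.range fun s : P.S => (⟨rep S Y hUY s, (rep_spec S Y hUY s).1⟩ : Y)
  sup_eq_top := by
    rw [eq_top_iff]
    intro y _
    obtain ⟨n, hn, hy⟩ := bruhat P (y : G)
    obtain ⟨k, -, hkY, hkN, hkn⟩ := exists_word_rep S Y hUY hn
    rw [← dc_eq_of_cong P hkn] at hy
    obtain ⟨a, ha, b, hb, e⟩ := DoubleCoset.mem_doubleCoset.1 (dc_restrict S Y hUY hkY hkN hy)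
    rw [e]
    exact mul_mem (mul_mem (Subgroup.mem_sup_left ha) (Subgroup.mem_sup_right (show (⟨k, hkY⟩ : Y) ∈ P.N.subgroupOf Y from hkN)))
      (Subgroup.mem_sup_left hb)
  conj_mem n hn t ht := P.conj_mem (n : G) hn (t : G) ⟨ht.1, ht.2⟩
  subset := by
    rintro _ ⟨s, rfl⟩
    exact (rep_spec S Y hUY s).2.1
  sq_mem := by
    rintro _ ⟨s, rfl⟩
    obtain ⟨-, hrN, hr⟩ := rep_spec S Y hUY s
    show rep S Y hUY s * rep S Y hUY s ∈ P.B
    have ht : (s : G)⁻¹ * rep S Y hUY s ∈ P.N := mul_mem (inv_mem (P.subset s.2)) hrN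
    have e : rep S Y hUY s * rep S Y hUY s =
        ((s : G) * s) * ((s : G)⁻¹ * ((s : G)⁻¹ * rep S Y hUY s) * s) * ((s : G)⁻¹ * rep S Y hUY s) := by group
    rw [e]
    exact mul_mem (mul_mem (P.sq_mem s s.2) (t_conj' P (P.subset s.2) hr ht)) hr
  inj := by
    rintro _ ⟨s, rfl⟩ _ ⟨s', rfl⟩ h
    have h' : (rep S Y hUY s)⁻¹ * rep S Y hUY s' ∈ P.B := h
    have := P.inj _ s.2 _ s'.2
      (cong_trans P (cong_trans P (rep_spec S Y hUY s).2.2 h') (cong_symm P (rep_spec S Y hUY s').2.2))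
    rw [show s = s' from Subtype.ext this]
  closure_sup := by
    refine le_antisymm (sup_le ((Subgroup.closure_le _).2 ?_) inf_le_right) ?_
    · rintro _ ⟨s, rfl⟩
      exact (rep_spec S Y hUY s).2.1
    · intro n hn
      obtain ⟨k, hk, hkY, hkN, hkn⟩ := exists_word_rep S Y hUY (n := (n : G)) hn
      have hk' : (⟨k, hkY⟩ : Y) ∈ Subgroup.closure (Set.range fun s : P.S => (⟨rep S Y hUY s, (rep_spec S Y hUY s).1⟩ : Y)) := by
        have h2 : k ∈ (Subgroup.closure (Set.range fun s : P.S => (⟨rep S Y hUY s, (rep_spec S Y hUY s).1⟩ : Y))).map Y.subtype := by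
          rw [MonoidHom.map_closure, ← Set.range_comp]; exact hk
        obtain ⟨k', hk', e⟩ := h2
        rwa [show (⟨k, hkY⟩ : Y) = k' from Subtype.ext e.symm]
      have : n = ⟨k, hkY⟩ * ((⟨k, hkY⟩ : Y)⁻¹ * n) := by group
      rw [this]
      exact mul_mem (Subgroup.mem_sup_left hk')
        (Subgroup.mem_sup_right (show (⟨k, hkY⟩ : Y)⁻¹ * n ∈ P.B.subgroupOf Y ⊓ P.N.subgroupOf Y from
          ⟨hkn, P.N.mul_mem (P.N.inv_mem hkN) hn⟩))
  mul_mem_union := by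
    rintro _ ⟨s, rfl⟩ n hn b hb
    obtain ⟨hrY, hrN, hr⟩ := rep_spec S Y hUY s
    have e : rep S Y hUY s * (b : G) * n = (s : G) * (((s : G)⁻¹ * rep S Y hUY s) * b) * n := by group
    rcases P.mul_mem_union s s.2 (n : G) hn _ (mul_mem hr hb) with h | h
    · left
      exact dc_restrict S Y hUY (y := ⟨rep S Y hUY s, hrY⟩ * b * n) (mul_mem hrY n.2) (mul_mem hrN hn)
        (by rw [← dc_eq_of_cong P (cong_right P (P.subset s.2) hrN (show (n : G) ∈ P.N from hn) hr)]; rw [Subgroup.coe_mul, Subgroup.coe_mul]; rw [e]; exact h)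
    · right
      exact dc_restrict S Y hUY (y := ⟨rep S Y hUY s, hrY⟩ * b * n) n.2 hn (by rw [Subgroup.coe_mul, Subgroup.coe_mul]; rw [e]; exact h)
  conj_ne := by
    rintro _ ⟨s, rfl⟩ h
    obtain ⟨hrY, hrN, hr⟩ := rep_spec S Y hUY s
    obtain ⟨r, hrd⟩ : ∃ r, r = rep S Y hUY s := ⟨_, rfl⟩
    rw [← hrd] at hrY hrN hr
    have hconj : ∀ u ∈ U, r * u * r ∈ P.B := fun u hu => by
      have := h.subset ⟨⟨u, hUY hu⟩, S.le hu, rfl⟩
      rw [hrd]; exact this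
    have hrr : r * r ∈ P.B := by simpa using hconj 1 (one_mem U)
    have hU : ∀ u ∈ U, (s : G)⁻¹ * u * s ∈ P.B := fun u hu => by
      have hc : (s : G)⁻¹ * r ∈ P.B := hr
      have e : (s : G)⁻¹ * u * s = ((s : G)⁻¹ * r) * ((r * r)⁻¹ * (r * u * r)) * ((s : G)⁻¹ * r)⁻¹ := by group
      rw [e]; exact mul_mem (mul_mem hc (mul_mem (inv_mem hrr) (hconj u hu))) (inv_mem hc)
    obtain ⟨b₀, hb₀, h0⟩ := exists_not_fix P s.2
    obtain ⟨u, hu, t, ht, hut⟩ := S.decomp ((s : G) * s * b₀) (mul_mem (P.sq_mem s s.2) hb₀)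
    have h1 : (s : G) * b₀ * s ∈ P.B := by
      have e : (s : G) * b₀ * s = ((s : G)⁻¹ * u * s) * ((s : G)⁻¹ * t * s) := by
        calc (s : G) * b₀ * s = (s : G)⁻¹ * (s * s * b₀) * s := by group
          _ = _ := by rw [hut]; group
      rw [e]; exact mul_mem (hU u hu) (t_conj' P (P.subset s.2) ht.1 ht.2)
    exact s_not_mem P s.2 (by simpa [Cong] using cong_of_mem_dc P (one_mem _) (P.subset s.2) ((dc_one P).2 h1) h0)

theorem Split.restrict [Finite G] : Split (restrictPair S Y hUY) p (U.subgroupOf Y) := by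
  refine ⟨S.pgroup.comap_of_injective _ Y.subtype_injective, fun u hu => S.le hu,
    fun b hb u hu => S.normal (b : G) hb (u : G) hu, fun b hb => ?_, fun h => S.torus (h.trans ?_), ?_⟩
  · obtain ⟨u, hu, t, ht, e⟩ := S.decomp (b : G) hb
    have htY : t ∈ Y := by
      have : t = u⁻¹ * b := by rw [e]; group
      rw [this]; exact mul_mem (inv_mem (hUY hu)) b.2
    exact ⟨⟨u, hUY hu⟩, hu, ⟨t, htY⟩, ⟨ht.1, ht.2⟩, Subtype.ext e⟩
  · rw [show (restrictPair S Y hUY).B ⊓ (restrictPair S Y hUY).N = (P.B ⊓ P.N).subgroupOf Y from rfl,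
      Nat.card_congr ((Subgroup.equivMapOfInjective _ _ Y.subtype_injective).toEquiv), Subgroup.subgroupOf_map_subtype]
    exact Subgroup.card_dvd_of_le inf_le_left
  · obtain ⟨n, hn, hopp⟩ := S.opp
    obtain ⟨k, -, hkY, hkN, hkn⟩ := exists_word_rep S Y hUY hn
    refine ⟨⟨k, hkY⟩, hkN, fun u hu h => Subtype.ext (hopp _ hu ?_)⟩
    have h' : k⁻¹ * (u : G) * k ∈ P.B := h
    have hc : k⁻¹ * n ∈ P.B := hkn
    have e : n⁻¹ * (u : G) * n = (k⁻¹ * n)⁻¹ * (k⁻¹ * u * k) * (k⁻¹ * n) := by group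
    rw [e]; exact mul_mem (mul_mem (inv_mem hc) h') hc

end Normal

/-- The Steinberg character of the quotient of a normal subgroup by its centre. -/
theorem Split.exists_steinberg_central {P : Cfsg.BNPair G} {p : ℕ} {U : Subgroup G} [Finite G] [Fact p.Prime]
    (S : Split P p U) (Y : Subgroup G) [Y.Normal] (hUY : U ≤ Y) :
    ∃ χ : Y ⧸ Subgroup.center Y → ℂ, Cfsg.IsIrrCharacter (Y ⧸ Subgroup.center Y) χ ∧
      ∀ Q : Sylow p (Y ⧸ Subgroup.center Y), χ 1 = Nat.card Q ∧ ∀ x, x ∈ Q → x ≠ 1 → χ x = 0 := by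
  have hker : (QuotientGroup.mk' (Subgroup.center Y)).ker ≤ (restrictPair S Y hUY).B := by
    rw [QuotientGroup.ker_mk']
    intro z hz
    refine mem_of_conj_le (restrictPair S Y hUY) le_rfl fun b hb => ?_
    rw [← Subgroup.mem_center_iff.1 hz b, mul_inv_cancel_right]
    exact hb
  exact ((S.restrict Y hUY).map _ (QuotientGroup.mk'_surjective _) hker).exists_steinberg

/-- The same, across an isomorphism. -/
theorem Split.exists_steinberg_central_equiv {P : Cfsg.BNPair G} {p : ℕ} {U : Subgroup G} [Finite G] [Fact p.Prime]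
    (S : Split P p U) {X : Type v} [Group X] (E : G ≃* X) (Y : Subgroup X) [Y.Normal]
    (hUY : U.map E.toMonoidHom ≤ Y) :
    ∃ χ : Y ⧸ Subgroup.center Y → ℂ, Cfsg.IsIrrCharacter (Y ⧸ Subgroup.center Y) χ ∧
      ∀ Q : Sylow p (Y ⧸ Subgroup.center Y), χ 1 = Nat.card Q ∧ ∀ x, x ∈ Q → x ≠ 1 → χ x = 0 := by
  haveI : Finite X := Finite.of_equiv G E.toEquiv
  exact (S.map E.toMonoidHom E.surjective
    (by rw [(MonoidHom.ker_eq_bot_iff _).2 E.injective]; exact bot_le)).exists_steinberg_central Y hUY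

/-- A split pair on a central quotient of a group isomorphic to a normal subgroup. -/
theorem Split.exists_split_iso {P : Cfsg.BNPair G} {p : ℕ} {U : Subgroup G} [Finite G]
    (S : Split P p U) {Y : Subgroup G} [Y.Normal] (hUY : U ≤ Y) {Z : Type v} [Group Z] (φ : Y ≃* Z) :
    ∃ (P' : Cfsg.BNPair (Z ⧸ Subgroup.center Z)) (U' : Subgroup (Z ⧸ Subgroup.center Z)), Split P' p U' := by
  haveI : Finite Z := Finite.of_equiv Y φ.toEquiv
  refine ⟨_, _, ((S.restrict Y hUY).map φ.toMonoidHom φ.surjective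
    (by rw [(MonoidHom.ker_eq_bot_iff _).2 φ.injective]; exact bot_le)).map
      (QuotientGroup.mk' (Subgroup.center Z)) (QuotientGroup.mk'_surjective _) ?_⟩
  rw [QuotientGroup.ker_mk']
  intro z hz
  refine mem_of_conj_le _ le_rfl fun b hb => ?_
  rw [← Subgroup.mem_center_iff.1 hz b, mul_inv_cancel_right]
  exact hb

/-- The same for a group isomorphic to a normal subgroup. -/
theorem Split.exists_steinberg_iso {P : Cfsg.BNPair G} {p : ℕ} {U : Subgroup G} [Finite G] [Fact p.Prime]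
    (S : Split P p U) {Y : Subgroup G} [Y.Normal] (hUY : U ≤ Y) {Z : Type v} [Group Z] (φ : Y ≃* Z) :
    ∃ χ : Z ⧸ Subgroup.center Z → ℂ, Cfsg.IsIrrCharacter (Z ⧸ Subgroup.center Z) χ ∧
      ∀ Q : Sylow p (Z ⧸ Subgroup.center Z), χ 1 = Nat.card Q ∧ ∀ x, x ∈ Q → x ≠ 1 → χ x = 0 := by
  haveI : Finite Z := Finite.of_equiv Y φ.toEquiv
  obtain ⟨_, _, S'⟩ := S.exists_split_iso hUY φ
  exact S'.exists_steinberg

end Cfsg.Agent.Lib.ClassicalBN
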