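import Mathlib
import Cfsg.Agent.Lib.Flag.GLOrbits

/-!
The normal form `u n u'` in the general linear group and in groups of fixed points inside it.
-/

set_option autoImplicit false

namespace Cfsg.Agent.Lib.ClassicalBN

variable {F : Type*} [Field F] [Finite F] {N : ℕ}

local notation "Γ" => GL (Fin N) F
local notation "𝕄" => Matrix (Fin N) (Fin N) F

/-- A multiplicatively closed set of a finite group as a subgroup. -/
def ofClosed {G : Type*} [Group G] [Finite G] (s : Set G) (h1 : (1 : G) ∈ s) (hm : ∀ a b, a ∈ s → b ∈ s → a * b ∈ s) :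
    Subgroup G where
  carrier := s
  one_mem' := h1
  mul_mem' {a b} := hm a b
  inv_mem' {a} ha := by
    have key : ∀ k : ℕ, a ^ k ∈ s := fun k => by
      induction k with
      | zero => simpa using h1
      | succ k ih => rw [pow_succ]; exact hm _ _ ih ha
    have h : a⁻¹ = a ^ (orderOf a - 1) := by
      refine inv_eq_of_mul_eq_one_right ?_
      rw [← pow_succ', Nat.sub_add_cancel (orderOf_pos a), pow_orderOf_eq_one]
    rw [h]; exact key _

/-- The upper unitriangular matrices. -/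
def uni (N : ℕ) (F : Type*) [Field F] [Finite F] : Subgroup (GL (Fin N) F) :=
  ofClosed {g | ∀ i j : Fin N, j ≤ i → (g : Matrix (Fin N) (Fin N) F) i j = (1 : Matrix (Fin N) (Fin N) F) i j}
    (fun i j _ => rfl) (fun a b ha hb i j hji => by
      rw [Units.val_mul, Matrix.mul_apply, Finset.sum_eq_single i]
      · rw [ha i i le_rfl, Matrix.one_apply_eq, one_mul, hb i j hji]
      · intro k _ hk
        rcases lt_or_gt_of_ne hk with h | h
        · rw [ha i k h.le, Matrix.one_apply_ne hk.symm, zero_mul]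
        · rw [hb k j (hji.trans h.le), Matrix.one_apply_ne (lt_of_le_of_lt hji h).ne', mul_zero]
      · simp)

/-- The lower unitriangular matrices. -/
def low (N : ℕ) (F : Type*) [Field F] [Finite F] : Subgroup (GL (Fin N) F) :=
  ofClosed {g | ∀ i j : Fin N, i ≤ j → (g : Matrix (Fin N) (Fin N) F) i j = (1 : Matrix (Fin N) (Fin N) F) i j}
    (fun i j _ => rfl) (fun a b ha hb i j hij => by
      rw [Units.val_mul, Matrix.mul_apply, Finset.sum_eq_single i]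
      · rw [ha i i le_rfl, Matrix.one_apply_eq, one_mul, hb i j hij]
      · intro k _ hk
        rcases lt_or_gt_of_ne hk with h | h
        · rw [hb k j (h.le.trans hij), Matrix.one_apply_ne (lt_of_lt_of_le h hij).ne, mul_zero]
        · rw [ha i k h.le, Matrix.one_apply_ne hk.symm, zero_mul]
      · simp)

/-- `g` is monomial with permutation `w`. -/
def HasPerm (g : Γ) (w : Equiv.Perm (Fin N)) : Prop := ∀ i j, i ≠ w j → (g : 𝕄) i j = 0

omit [Finite F] in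
theorem hasPerm_one : HasPerm (1 : Γ) 1 := fun i j h => Matrix.one_apply_ne h

omit [Finite F] in
theorem HasPerm.mul_apply {g : Γ} {w : Equiv.Perm (Fin N)} (h : HasPerm g w) (A : 𝕄) (i j : Fin N) :
    ((g : 𝕄) * A) (w i) j = (g : 𝕄) (w i) i * A i j := by
  rw [Matrix.mul_apply, Finset.sum_eq_single i]
  · intro k _ hk
    rw [h _ _ (fun e => hk (w.injective e).symm), zero_mul]
  · simp

omit [Finite F] in
theorem HasPerm.apply_mul {g : Γ} {w : Equiv.Perm (Fin N)} (h : HasPerm g w) (A : 𝕄) (i j : Fin N) :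
    (A * (g : 𝕄)) i j = A i (w j) * (g : 𝕄) (w j) j := by
  rw [Matrix.mul_apply, Finset.sum_eq_single (w j)]
  · intro k _ hk
    rw [h _ _ hk, mul_zero]
  · simp

omit [Finite F] in
theorem HasPerm.mul {g h : Γ} {w v : Equiv.Perm (Fin N)} (hg : HasPerm g w) (hh : HasPerm h v) : HasPerm (g * h) (w * v) := by
  intro i j hij
  rw [Units.val_mul, hh.apply_mul, hg i (v j) hij, zero_mul]

omit [Finite F] in
theorem HasPerm.ne_zero {g : Γ} {w : Equiv.Perm (Fin N)} (h : HasPerm g w) (j : Fin N) : (g : 𝕄) (w j) j ≠ 0 := by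
  intro h0
  have h1 : (((g⁻¹ : Γ) : 𝕄) * (g : 𝕄)) j j = 1 := by rw [Units.inv_mul, Matrix.one_apply_eq]
  rw [h.apply_mul, h0, mul_zero] at h1
  exact zero_ne_one h1

omit [Finite F] in
theorem HasPerm.unique {g : Γ} {w v : Equiv.Perm (Fin N)} (hg : HasPerm g w) (hv : HasPerm g v) : w = v :=
  Equiv.ext fun j => by
    by_contra hne
    exact hg.ne_zero j (hv _ _ hne)

/-- The monomial matrices. -/
def mono (N : ℕ) (F : Type*) [Field F] [Finite F] : Subgroup (GL (Fin N) F) :=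
  ofClosed {g | ∃ w, HasPerm g w} ⟨1, hasPerm_one⟩ fun _ _ ⟨w, hw⟩ ⟨v, hv⟩ => ⟨w * v, hw.mul hv⟩

theorem HasPerm.inv {g : Γ} {w : Equiv.Perm (Fin N)} (hg : HasPerm g w) : HasPerm g⁻¹ w⁻¹ := by
  obtain ⟨v, hv⟩ : g⁻¹ ∈ mono N F := inv_mem ⟨w, hg⟩
  have h := hv.mul hg
  rw [inv_mul_cancel] at h
  rwa [← eq_inv_of_mul_eq_one_left (hasPerm_one.unique h).symm]

theorem HasPerm.conj_apply {g : Γ} {w : Equiv.Perm (Fin N)} (hg : HasPerm g w) (u : Γ) (i j : Fin N) :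
    (g : 𝕄) (w i) i * ((g⁻¹ * u * g : Γ) : 𝕄) i j = (u : 𝕄) (w i) (w j) * (g : 𝕄) (w j) j := by
  rw [← hg.mul_apply, ← hg.apply_mul, ← Units.val_mul, ← Units.val_mul, ← mul_assoc, ← mul_assoc, mul_inv_cancel, one_mul]

theorem uni_inf_low {g : Γ} (h : g ∈ uni N F) (h' : g ∈ low N F) : g = 1 :=
  Units.ext <| Matrix.ext fun i j => (le_total j i).elim (h i j) (h' i j)

theorem uni_diag {g : Γ} (h : g ∈ uni N F) (i : Fin N) : (g : 𝕄) i i = 1 := by
  rw [h i i le_rfl, Matrix.one_apply_eq]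

theorem uni_below {g : Γ} (h : g ∈ uni N F) {i j : Fin N} (hij : j < i) : (g : 𝕄) i j = 0 := by
  rw [h i j hij.le, Matrix.one_apply_ne hij.ne']

theorem eq_one_of_uni_mono {g : Γ} (h : g ∈ uni N F) (h' : g ∈ mono N F) : g = 1 := by
  obtain ⟨w, hw⟩ := h'
  have hw1 : ∀ j, w j = j := fun j => by
    by_contra hne
    have := hw j j (Ne.symm hne)
    rw [uni_diag h] at this
    exact one_ne_zero this
  refine Units.ext (Matrix.ext fun i j => ?_)
  rcases eq_or_ne i j with rfl | hne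
  · rw [uni_diag h]; simp
  · rw [hw i j (by rwa [hw1])]
    exact (Matrix.one_apply_ne hne).symm

/-- The monomial part is unique. -/
theorem cell_unique {u u' n m : Γ} (hu : u ∈ uni N F) (hu' : u' ∈ uni N F) (hn : n ∈ mono N F) (hm : m ∈ mono N F)
    (h : u * n * u' = m) : n = m := by
  obtain ⟨w, hw⟩ := hn
  obtain ⟨v, hv⟩ := hm
  have he : (n : 𝕄) * (u' : 𝕄) = ((u⁻¹ : Γ) : 𝕄) * (m : 𝕄) := by
    rw [← Units.val_mul, ← Units.val_mul]
    congr 1
    rw [← h]; group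
  have hl : ∀ j, ((n : 𝕄) * (u' : 𝕄)) (w j) j = (n : 𝕄) (w j) j := fun j => by
    rw [hw.mul_apply, uni_diag hu', mul_one]
  have hr : ∀ i j, (((u⁻¹ : Γ) : 𝕄) * (m : 𝕄)) i j = ((u⁻¹ : Γ) : 𝕄) i (v j) * (m : 𝕄) (v j) j := fun i j =>
    hv.apply_mul _ i j
  have hle : ∀ j, w j ≤ v j := fun j => by
    by_contra hlt
    have := hl j
    rw [he, hr, uni_below (inv_mem hu) (not_le.1 hlt), zero_mul] at this
    exact hw.ne_zero j this.symm
  have heq : ∀ j, w j = v j := fun j => by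
    have hsum : ∑ i : Fin N, Fin.val (w i) = ∑ i : Fin N, Fin.val (v i) :=
      (Equiv.sum_comp w (fun i : Fin N => (i : ℕ))).trans (Equiv.sum_comp v (fun i : Fin N => (i : ℕ))).symm
    exact Fin.ext ((Finset.sum_eq_sum_iff_of_le (f := fun i => Fin.val (w i)) (g := fun i => Fin.val (v i))
      (fun i _ => hle i)).1 hsum j (Finset.mem_univ j))
  refine Units.ext (Matrix.ext fun i j => ?_)
  rcases eq_or_ne i (w j) with rfl | hne
  · rw [← hl j, he, hr, ← heq j, uni_diag (inv_mem hu), one_mul]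
  · rw [hw i j hne, hv i j (heq j ▸ hne)]

/-- The form is unique. -/
theorem form_unique {u n u' v m v' : Γ} (hu : u ∈ uni N F) (hu' : u' ∈ uni N F) (hv : v ∈ uni N F) (hv' : v' ∈ uni N F)
    (hn : n ∈ mono N F) (hm : m ∈ mono N F) (hul : n⁻¹ * u * n ∈ low N F) (hvl : m⁻¹ * v * m ∈ low N F)
    (h : u * n * u' = v * m * v') : u = v ∧ n = m ∧ u' = v' := by
  have hnm : n = m := cell_unique (mul_mem (inv_mem hv) hu) (mul_mem hu' (inv_mem hv')) hn hm (by
    calc v⁻¹ * u * n * (u' * v'⁻¹) = v⁻¹ * (u * n * u') * v'⁻¹ := by group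
      _ = m := by rw [h]; group)
  subst hnm
  have h1 : n⁻¹ * v⁻¹ * u * n = v' * u'⁻¹ := by
    calc n⁻¹ * v⁻¹ * u * n = n⁻¹ * v⁻¹ * (u * n * u') * u'⁻¹ := by group
      _ = _ := by rw [h]; group
  have h2 : n⁻¹ * v⁻¹ * u * n = (n⁻¹ * v * n)⁻¹ * (n⁻¹ * u * n) := by group
  have h3 : v' * u'⁻¹ = 1 := uni_inf_low (mul_mem hv' (inv_mem hu')) (by
    rw [← h1, h2]; exact mul_mem (inv_mem hvl) hul)
  have h4 : v' = u' := mul_inv_eq_one.1 h3
  subst h4
  exact ⟨mul_right_cancel (mul_right_cancel h), rfl, rfl⟩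

/-- The matrices supported on a pattern. -/
def pat (R : Fin N → Fin N → Prop) : Set Γ :=
  {g | ∀ i j, ¬ R i j → (g : 𝕄) i j = (1 : 𝕄) i j}

theorem pat_subset_uni {R : Fin N → Fin N → Prop} (hR : ∀ i j, R i j → i < j) {g : Γ} (hg : g ∈ pat R) : g ∈ uni N F :=
  fun i j hji => hg i j fun h => (hR i j h).not_ge hji

omit [Finite F] in
theorem card_pat {R : Fin N → Fin N → Prop} (hR : ∀ i j, R i j → i < j) :
    Nat.card (pat R : Set Γ) = Nat.card F ^ Nat.card {x : Fin N × Fin N // R x.1 x.2} := by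
  classical
  rw [← Nat.card_fun]
  let M : ({x : Fin N × Fin N // R x.1 x.2} → F) → 𝕄 := fun f =>
    Matrix.of fun i j => if h : R i j then f ⟨(i, j), h⟩ else (1 : 𝕄) i j
  have hdet : ∀ f, (M f).det = 1 := fun f => by
    rw [Matrix.det_of_upperTriangular (fun i j (hji : j < i) => by
      show (if h : R i j then f ⟨(i, j), h⟩ else (1 : 𝕄) i j) = 0
      rw [dif_neg (fun h => lt_asymm hji (hR i j h)), Matrix.one_apply_ne hji.ne'])]
    refine Finset.prod_eq_one fun i _ => ?_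
    show (if h : R i i then f ⟨(i, i), h⟩ else (1 : 𝕄) i i) = 1
    rw [dif_neg (fun h => lt_irrefl i (hR i i h)), Matrix.one_apply_eq]
  refine Nat.card_congr
    { toFun := fun g x => ((g : Γ) : 𝕄) x.1.1 x.1.2
      invFun := fun f => ⟨Matrix.GeneralLinearGroup.mkOfDetNeZero (M f) (by rw [hdet]; exact one_ne_zero),
        fun i j h => by
          show (if h : R i j then f ⟨(i, j), h⟩ else (1 : 𝕄) i j) = _
          rw [dif_neg h]⟩
      left_inv := fun g => Subtype.ext (Units.ext (Matrix.ext fun i j => by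
        show (if h : R i j then ((g : Γ) : 𝕄) i j else (1 : 𝕄) i j) = _
        by_cases h : R i j
        · rw [dif_pos h]
        · rw [dif_neg h, g.2 i j h]))
      right_inv := fun f => funext fun x => by
        show (if h : R x.1.1 x.1.2 then f ⟨(x.1.1, x.1.2), h⟩ else (1 : 𝕄) x.1.1 x.1.2) = _
        rw [dif_pos x.2] }

/-- `u` splits along a monomial matrix. -/
theorem exists_split {n : Γ} (hn : n ∈ mono N F) {u : Γ} (hu : u ∈ uni N F) :
    ∃ u₁ ∈ uni N F, ∃ u₂ ∈ uni N F, u = u₁ * u₂ ∧ n⁻¹ * u₁ * n ∈ low N F ∧ n⁻¹ * u₂ * n ∈ uni N F := by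
  classical
  haveI : Finite Γ := inferInstance
  obtain ⟨w, hw⟩ := hn
  obtain ⟨R₁, hR₁⟩ : ∃ R, R = fun i j : Fin N => i < j ∧ w⁻¹ j < w⁻¹ i := ⟨_, rfl⟩
  obtain ⟨R₂, hR₂⟩ : ∃ R, R = fun i j : Fin N => i < j ∧ w⁻¹ i < w⁻¹ j := ⟨_, rfl⟩
  have lt₁ : ∀ i j, R₁ i j → i < j := fun i j h => by rw [hR₁] at h; exact h.1
  have lt₂ : ∀ i j, R₂ i j → i < j := fun i j h => by rw [hR₂] at h; exact h.1
  have hlow : ∀ g ∈ (pat R₁ : Set Γ), n⁻¹ * g * n ∈ low N F := fun g hg i j hij => by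
    refine mul_left_cancel₀ (hw.ne_zero i) ?_
    rw [hw.conj_apply]
    rcases eq_or_ne i j with rfl | hne
    · rw [uni_diag (pat_subset_uni lt₁ hg), Matrix.one_apply_eq, one_mul, mul_one]
    · rw [hg (w i) (w j) (fun h => by rw [hR₁] at h; simp at h; exact h.2.not_ge hij), Matrix.one_apply_ne hne,
        Matrix.one_apply_ne (w.injective.ne hne), zero_mul, mul_zero]
  have hup : ∀ g ∈ (pat R₂ : Set Γ), n⁻¹ * g * n ∈ uni N F := fun g hg i j hji => by
    refine mul_left_cancel₀ (hw.ne_zero i) ?_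
    rw [hw.conj_apply]
    rcases eq_or_ne i j with rfl | hne
    · rw [uni_diag (pat_subset_uni lt₂ hg), Matrix.one_apply_eq, one_mul, mul_one]
    · rw [hg (w i) (w j) (fun h => by rw [hR₂] at h; simp at h; exact h.2.not_ge hji), Matrix.one_apply_ne hne,
        Matrix.one_apply_ne (w.injective.ne hne), zero_mul, mul_zero]
  let m : ↥(pat R₁ : Set Γ) × ↥(pat R₂ : Set Γ) → uni N F := fun x =>
    ⟨x.1.1 * x.2.1, mul_mem (pat_subset_uni lt₁ x.1.2) (pat_subset_uni lt₂ x.2.2)⟩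
  have hinj : Function.Injective m := by
    rintro ⟨⟨a, ha⟩, ⟨b, hb⟩⟩ ⟨⟨c, hc⟩, ⟨d, hd⟩⟩ h
    have h1 : a * b = c * d := congrArg Subtype.val h
    have h2 : n⁻¹ * (c⁻¹ * a) * n = n⁻¹ * (d * b⁻¹) * n := by
      congr 2
      calc c⁻¹ * a = c⁻¹ * (a * b) * b⁻¹ := by group
        _ = _ := by rw [h1]; group
    have h3 : n⁻¹ * (c⁻¹ * a) * n = 1 := by
      refine uni_inf_low ?_ ?_
      · rw [h2, show n⁻¹ * (d * b⁻¹) * n = (n⁻¹ * d * n) * (n⁻¹ * b * n)⁻¹ by group]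
        exact mul_mem (hup d hd) (inv_mem (hup b hb))
      · rw [show n⁻¹ * (c⁻¹ * a) * n = (n⁻¹ * c * n)⁻¹ * (n⁻¹ * a * n) by group]
        exact mul_mem (inv_mem (hlow c hc)) (hlow a ha)
    have h4 : c⁻¹ * a = 1 := by
      calc c⁻¹ * a = n * (n⁻¹ * (c⁻¹ * a) * n) * n⁻¹ := by group
        _ = 1 := by rw [h3]; group
    have h5 : c = a := inv_mul_eq_one.1 h4
    subst h5
    have h6 : b = d := mul_left_cancel h1
    subst h6
    rfl
  have hcard : Nat.card (↥(pat R₁ : Set Γ) × ↥(pat R₂ : Set Γ)) = Nat.card (uni N F) := by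
    have e3 : Nat.card (uni N F) = Nat.card (pat (fun i j : Fin N => i < j) : Set Γ) := by
      refine Nat.card_congr (Equiv.subtypeEquivRight fun g => ⟨fun h i j hij => h i j (not_lt.1 hij), fun h i j hji => h i j (not_lt.2 hji)⟩)
    rw [Nat.card_prod, e3, card_pat lt₁, card_pat lt₂, card_pat (fun i j h => h), ← pow_add]
    congr 1
    rw [hR₁, hR₂, ← Nat.card_sum]
    refine Nat.card_congr ((Equiv.subtypeEquivRight (q := fun x : Fin N × Fin N =>
      (x.1 < x.2 ∧ w⁻¹ x.2 < w⁻¹ x.1) ∨ (x.1 < x.2 ∧ w⁻¹ x.1 < w⁻¹ x.2)) fun x => ?_).trans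
      (subtypeOrEquiv _ _ ?_)).symm
    · constructor
      · intro h
        rcases lt_or_gt_of_ne ((w⁻¹).injective.ne h.ne) with h' | h'
        · exact .inr ⟨h, h'⟩
        · exact .inl ⟨h, h'⟩
      · rintro (h | h) <;> exact h.1
    · rw [Pi.disjoint_iff]
      intro x
      rw [Prop.disjoint_iff]
      rintro ⟨⟨-, h⟩, -, h'⟩
      exact lt_asymm h h'
  obtain ⟨⟨⟨a, ha⟩, ⟨b, hb⟩⟩, hab⟩ := ((Nat.bijective_iff_injective_and_card m).2 ⟨hinj, hcard⟩).2 ⟨u, hu⟩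
  exact ⟨a, pat_subset_uni lt₁ ha, b, pat_subset_uni lt₂ hb, (congrArg Subtype.val hab).symm, hlow a ha, hup b hb⟩

/-- Every element of the subgroup has its normal form inside the subgroup. -/
def NForm (G : Subgroup Γ) : Prop :=
  ∀ g ∈ G, ∃ u ∈ G ⊓ uni N F, ∃ n ∈ G ⊓ mono N F, ∃ u' ∈ G ⊓ uni N F, g = u * n * u' ∧ n⁻¹ * u * n ∈ low N F

theorem nform_top : NForm (⊤ : Subgroup Γ) := by
  intro g _
  obtain ⟨b, b', w, hb, hb', hg⟩ := Flag.exists_bruhat g
  have key : ∀ b : Γ, (∀ i j : Fin N, j < i → (b : 𝕄) i j = 0) →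
      ∃ t : Γ, HasPerm t 1 ∧ b * t⁻¹ ∈ uni N F ∧ t⁻¹ * b ∈ uni N F := by
    intro b hb
    have hd : ∀ i, (b : 𝕄) i i ≠ 0 := fun i h => by
      have := Matrix.det_of_upperTriangular (M := (b : 𝕄)) (fun i j h => hb i j h)
      exact (Matrix.isUnits_det_units b).ne_zero (this.trans (Finset.prod_eq_zero (Finset.mem_univ i) h))
    have hdet : (Matrix.diagonal fun i => (b : 𝕄) i i).det ≠ 0 := by
      rw [Matrix.det_diagonal]; exact Finset.prod_ne_zero_iff.2 fun i _ => hd i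
    obtain ⟨t, ht⟩ : ∃ t, t = Matrix.GeneralLinearGroup.mkOfDetNeZero (Matrix.diagonal fun i => (b : 𝕄) i i) hdet := ⟨_, rfl⟩
    have htd : HasPerm t 1 := fun i j h => by rw [ht]; exact Matrix.diagonal_apply_ne _ h
    have htt : ∀ i, (t : 𝕄) i i = (b : 𝕄) i i := fun i => by rw [ht]; exact Matrix.diagonal_apply_eq _ i
    have hti : ∀ i, ((t⁻¹ : Γ) : 𝕄) i i = ((b : 𝕄) i i)⁻¹ := fun i => by
      have h1 : (((t⁻¹ : Γ) : 𝕄) * (t : 𝕄)) i i = 1 := by rw [Units.inv_mul, Matrix.one_apply_eq]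
      rw [htd.apply_mul] at h1
      simp only [Equiv.Perm.coe_one, id_eq, htt] at h1
      exact eq_inv_of_mul_eq_one_left h1
    have htd' : HasPerm t⁻¹ 1 := by simpa using htd.inv
    refine ⟨t, htd, fun i j hji => ?_, fun i j hji => ?_⟩
    · rw [Units.val_mul, htd'.apply_mul]
      simp only [Equiv.Perm.coe_one, id_eq, hti]
      rcases hji.eq_or_lt with rfl | h
      · rw [Matrix.one_apply_eq, mul_inv_cancel₀ (hd j)]
      · rw [hb i j h, zero_mul, Matrix.one_apply_ne h.ne']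
    · rw [Units.val_mul]
      have := htd'.mul_apply (b : 𝕄) i j
      simp only [Equiv.Perm.coe_one, id_eq, hti] at this
      rw [this]
      rcases hji.eq_or_lt with rfl | h
      · rw [Matrix.one_apply_eq, inv_mul_cancel₀ (hd j)]
      · rw [hb i j h, mul_zero, Matrix.one_apply_ne h.ne']
  obtain ⟨t, ht, hbt, -⟩ := key b hb
  obtain ⟨t', ht', -, hbt'⟩ := key b' hb'
  have hP : HasPerm (Flag.permGL (F := F) w) w := fun i j h => by
    rw [Flag.permGL_apply, if_neg]; exact h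
  obtain ⟨n, hn⟩ : ∃ n, n = t * Flag.permGL w * t' := ⟨_, rfl⟩
  have hnm : n ∈ mono N F := ⟨_, hn ▸ (ht.mul hP).mul ht'⟩
  obtain ⟨u₁, hu₁, u₂, hu₂, he, hl, hr⟩ := exists_split hnm hbt
  refine ⟨u₁, ⟨trivial, hu₁⟩, n, ⟨trivial, hnm⟩, n⁻¹ * u₂ * n * (t'⁻¹ * b'), ⟨trivial, mul_mem hr hbt'⟩, ?_, hl⟩
  calc g = (b * t⁻¹) * (t * Flag.permGL w * t') * (t'⁻¹ * b') := by rw [hg]; group
    _ = u₁ * u₂ * n * (t'⁻¹ * b') := by rw [he, hn]
    _ = _ := by group

/-- Fixed points inherit the normal form. -/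
theorem NForm.fix {G G' : Subgroup Γ} (h : NForm G) (hle : G' ≤ G) (σ : Γ → Γ)
    (hmul : ∀ a ∈ G, ∀ b ∈ G, σ (a * b) = σ a * σ b) (hu : ∀ x ∈ G ⊓ uni N F, σ x ∈ uni N F)
    (hl : ∀ x ∈ G ⊓ low N F, σ x ∈ low N F) (hn : ∀ x ∈ G ⊓ mono N F, σ x ∈ mono N F)
    (hfix : ∀ g ∈ G, g ∈ G' ↔ σ g = g) : NForm G' := by
  intro g hg
  obtain ⟨u, hu₁, n, hn₁, u', hu₁', rfl, hlow⟩ := h g (hle hg)
  have hone : σ 1 = 1 := by
    have := hmul 1 (one_mem G) 1 (one_mem G)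
    simpa using this
  have hinv : ∀ a ∈ G, σ a⁻¹ = (σ a)⁻¹ := fun a ha => eq_inv_of_mul_eq_one_left (by
    rw [← hmul _ (inv_mem ha) _ ha, inv_mul_cancel, hone])
  have hlG : n⁻¹ * u * n ∈ G := mul_mem (mul_mem (inv_mem hn₁.1) hu₁.1) hn₁.1
  have hs := (hfix _ (hle hg)).1 hg
  rw [hmul _ (mul_mem hu₁.1 hn₁.1) _ hu₁'.1, hmul _ hu₁.1 _ hn₁.1] at hs
  have hsl : (σ n)⁻¹ * σ u * σ n ∈ low N F := by
    rw [← hinv _ hn₁.1, ← hmul _ (inv_mem hn₁.1) _ hu₁.1, ← hmul _ (mul_mem (inv_mem hn₁.1) hu₁.1) _ hn₁.1]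
    exact hl _ ⟨hlG, hlow⟩
  obtain ⟨e1, e2, e3⟩ := form_unique (hu u hu₁) (hu u' hu₁') hu₁.2 hu₁'.2 (hn n hn₁) hn₁.2 hsl hlow hs
  exact ⟨u, ⟨(hfix _ hu₁.1).2 e1, hu₁.2⟩, n, ⟨(hfix _ hn₁.1).2 e2, hn₁.2⟩, u', ⟨(hfix _ hu₁'.1).2 e3, hu₁'.2⟩, rfl, hlow⟩

end Cfsg.Agent.Lib.ClassicalBN
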