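import Mathlib
import Cfsg.Agent.Lib.ClassicalBN.GLForm
import Cfsg.Agent.Lib.ClassicalBN.Descent

/-!
A (B,N)-pair for a group of matrices with a normal form.
-/

set_option autoImplicit false

namespace Cfsg.Agent.Lib.ClassicalBN

universe v

variable {F : Type v} [Field F] [Finite F] {N : ℕ}

local notation "Γ" => GL (Fin N) F
local notation "𝕄" => Matrix (Fin N) (Fin N) F

/-- The diagonal matrices. -/
def dia (N : ℕ) (F : Type*) [Field F] [Finite F] : Subgroup (GL (Fin N) F) :=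
  ofClosed {g | HasPerm g 1} hasPerm_one fun _ _ ha hb => by simpa using ha.mul hb

theorem dia_le_mono : dia N F ≤ mono N F := fun _ h => ⟨1, h⟩

theorem conj_dia {n : Γ} (hn : n ∈ mono N F) {t : Γ} (ht : t ∈ dia N F) : n * t * n⁻¹ ∈ dia N F := by
  obtain ⟨w, hw⟩ := hn
  have h := (hw.mul (ht : HasPerm t 1)).mul hw.inv
  simp at h
  exact h

theorem conj_dia' {n : Γ} (hn : n ∈ mono N F) {t : Γ} (ht : t ∈ dia N F) : n⁻¹ * t * n ∈ dia N F := by
  simpa using conj_dia (Subgroup.inv_mem _ hn) ht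

theorem dia_conj_uni {t : Γ} (ht : t ∈ dia N F) {u : Γ} (hu : u ∈ uni N F) : t * u * t⁻¹ ∈ uni N F := by
  have ht' : HasPerm t⁻¹ 1 := Subgroup.inv_mem _ ht
  intro i j hji
  refine mul_left_cancel₀ (ht'.ne_zero i) ?_
  have h := ht'.conj_apply u i j
  rw [inv_inv] at h
  simp only [Equiv.Perm.coe_one, id_eq] at h ⊢
  rw [h]
  rcases hji.eq_or_lt with rfl | hlt
  · rw [uni_diag hu, Matrix.one_apply_eq, one_mul, mul_one]
  · rw [uni_below hu hlt, Matrix.one_apply_ne hlt.ne', zero_mul, mul_zero]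

/-- The Borel subgroup of `G`. -/
def BB (G : Subgroup Γ) : Subgroup Γ :=
  ofClosed {g | ∃ u ∈ G ⊓ uni N F, ∃ t ∈ G ⊓ dia N F, g = u * t} ⟨1, one_mem _, 1, one_mem _, by simp⟩
    fun a b ⟨u, hu, t, ht, ha⟩ ⟨u', hu', t', ht', hb⟩ =>
      ⟨u * (t * u' * t⁻¹), (G ⊓ uni N F).mul_mem hu ⟨G.mul_mem (G.mul_mem ht.1 hu'.1) (G.inv_mem ht.1), dia_conj_uni ht.2 hu'.2⟩,
        t * t', Subgroup.mul_mem _ ht ht', by rw [ha, hb]; group⟩

variable {G : Subgroup (GL (Fin N) F)}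

theorem uni_le_BB {u : Γ} (hu : u ∈ G ⊓ uni N F) : u ∈ BB G := ⟨u, hu, 1, one_mem _, by simp⟩

theorem dia_le_BB {t : Γ} (ht : t ∈ G ⊓ dia N F) : t ∈ BB G := ⟨1, one_mem _, t, ht, by simp⟩

theorem BB_le {b : Γ} (hb : b ∈ BB G) : b ∈ G := by
  obtain ⟨u, hu, t, ht, rfl⟩ := hb
  exact Subgroup.mul_mem _ hu.1 ht.1

theorem BB_mono {b : Γ} (hb : b ∈ BB G) (hm : b ∈ mono N F) : b ∈ G ⊓ dia N F := by
  obtain ⟨u, hu, t, ht, rfl⟩ := hb
  have h : u = 1 := eq_one_of_uni_mono hu.2 (by simpa using Subgroup.mul_mem _ hm (Subgroup.inv_mem _ (dia_le_mono ht.2)))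
  simpa [h] using ht

theorem BB_upper {b : Γ} (hb : b ∈ BB G) {i j : Fin N} (hji : j < i) : (b : 𝕄) i j = 0 := by
  obtain ⟨u, hu, t, ht, rfl⟩ := hb
  rw [Units.val_mul, (ht.2 : HasPerm t 1).apply_mul]
  simp [uni_below hu.2 hji]

theorem eq_one_of_low_BB {x : Γ} (hl : x ∈ low N F) (hb : x ∈ BB G) : x = 1 :=
  Units.ext (Matrix.ext fun i j => (le_or_gt i j).elim (hl i j)
    fun h => by rw [BB_upper hb h, Units.val_one, Matrix.one_apply_ne h.ne'])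

/-- The double coset axiom for `s`. -/
def Step (G : Subgroup Γ) (s : Γ) : Prop :=
  ∀ u ∈ G ⊓ uni N F, ∀ n ∈ G ⊓ mono N F,
    (∃ a ∈ BB G, ∃ b ∈ BB G, s * u * n = a * (s * n) * b) ∨ ∃ a ∈ BB G, ∃ b ∈ BB G, s * u * n = a * n * b

/-- Block diagonal. -/
def InL (lab : Fin N → ℕ) (g : Γ) : Prop := ∀ i j, lab i ≠ lab j → (g : 𝕄) i j = 0

theorem inL_mul {lab : Fin N → ℕ} {a b : Γ} (ha : InL lab a) (hb : InL lab b) : InL lab (a * b) := fun i j h => by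
  rw [Units.val_mul, Matrix.mul_apply]
  refine Finset.sum_eq_zero fun k _ => ?_
  by_cases hk : lab i = lab k
  · rw [hb k j (hk ▸ h), mul_zero]
  · rw [ha i k hk, zero_mul]

theorem inL_inv {lab : Fin N → ℕ} {a : Γ} (ha : InL lab a) : InL lab a⁻¹ :=
  (ofClosed {g : Γ | InL lab g} (fun i j h => by simp [Matrix.one_apply_ne (show i ≠ j from fun e => h (e ▸ rfl))])
    fun _ _ h h' => inL_mul h h').inv_mem ha

theorem inL_perm {lab : Fin N → ℕ} {a : Γ} {w : Equiv.Perm (Fin N)} (ha : HasPerm a w) (hw : ∀ i, lab (w i) = lab i) :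
    InL lab a := fun i j h => ha i j fun e => h (e ▸ hw j)

/-- The diagonal blocks of an upper unitriangular matrix. -/
theorem exists_blk {lab : Fin N → ℕ} {u : Γ} (hu : u ∈ uni N F) : ∃ u' ∈ uni N F, InL lab u' ∧
    ∀ i j, lab i = lab j → (u' : 𝕄) i j = (u : 𝕄) i j := by
  classical
  obtain ⟨M, hM⟩ : ∃ M : 𝕄, M = Matrix.of fun i j => if lab i = lab j then (u : 𝕄) i j else 0 := ⟨_, rfl⟩
  have hMd : ∀ i j, j ≤ i → M i j = (1 : 𝕄) i j := fun i j hji => by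
    rw [hM, Matrix.of_apply]
    split_ifs with h
    · rw [hu i j hji]
    · rw [Matrix.one_apply_ne fun e : i = j => h (e ▸ rfl)]
  have hdet : M.det = 1 := by
    rw [Matrix.det_of_upperTriangular (fun i j (h : j < i) => by rw [hMd i j h.le, Matrix.one_apply_ne h.ne'])]
    exact Finset.prod_eq_one fun i _ => by rw [hMd i i le_rfl, Matrix.one_apply_eq]
  refine ⟨Matrix.GeneralLinearGroup.mkOfDetNeZero M (by rw [hdet]; exact one_ne_zero), fun i j hji => hMd i j hji,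
    fun i j h => ?_, fun i j h => ?_⟩
  · show M i j = 0
    rw [hM, Matrix.of_apply, if_neg h]
  · show M i j = _
    rw [hM, Matrix.of_apply, if_pos h]

theorem step_of_block (hG : NForm G) {s : Γ} (hs : s ∈ G ⊓ mono N F) {σ : Equiv.Perm (Fin N)} (hsσ : HasPerm s σ)
    (hσ2 : σ * σ = 1) (hσ1 : σ ≠ 1) {lab : Fin N → ℕ} (hmono : Monotone lab) (hblk : ∀ i, lab (σ i) = lab i)
    (hopt : ∀ n ∈ G ⊓ mono N F, ∀ w, HasPerm n w → (∀ i, lab (w i) = lab i) → w = 1 ∨ w = σ)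
    (hor : ∀ n ∈ G ⊓ mono N F, (∀ u ∈ G ⊓ uni N F, InL lab u → n⁻¹ * u * n ∈ uni N F) ∨
      ∀ u ∈ G ⊓ uni N F, InL lab u → n⁻¹ * u * n ∈ low N F) : Step G s := by
  classical
  intro u hu n hn
  obtain ⟨a, ha, m, hm, d, hd, he, hlow⟩ := hG (u⁻¹ * s⁻¹) (Subgroup.mul_mem _ (Subgroup.inv_mem _ hu.1) (Subgroup.inv_mem _ hs.1))
  obtain rfl : m = s⁻¹ := cell_unique (u := u * a) (u' := d) (Subgroup.mul_mem _ hu.2 ha.2) hd.2 hm.2 (Subgroup.inv_mem _ hs.2) (by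
    calc u * a * m * d = u * (a * m * d) := by group
      _ = s⁻¹ := by rw [← he]; group)
  rw [inv_inv] at hlow
  have hu2 : u = s⁻¹ * d⁻¹ * s * a⁻¹ := by
    have h1 : u⁻¹ = a * s⁻¹ * d * s := by
      calc u⁻¹ = u⁻¹ * s⁻¹ * s := by group
        _ = _ := by rw [he]
    rw [← inv_inv u, h1]; group
  obtain ⟨x, hx⟩ : ∃ x, x = a⁻¹ := ⟨_, rfl⟩
  rw [← hx] at hu2
  have hxG : x ∈ G ⊓ uni N F := hx ▸ Subgroup.inv_mem _ ha
  have hv : s * x * s⁻¹ ∈ low N F := by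
    rw [show s * x * s⁻¹ = (s * a * s⁻¹)⁻¹ by rw [hx]; group]; exact Subgroup.inv_mem _ hlow
  have hσ' : σ⁻¹ = σ := inv_eq_of_mul_eq_one_right hσ2
  have hσσ : ∀ i, σ (σ i) = i := fun i => by rw [← Equiv.Perm.mul_apply, hσ2, Equiv.Perm.coe_one, id_eq]
  have hxL : InL lab x := by
    intro i j hne
    rcases lt_trichotomy j i with h | h | h
    · exact uni_below hxG.2 h
    · exact absurd (h ▸ rfl) hne
    · have hlt : σ i < σ j := by
        by_contra hle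
        refine hne (le_antisymm (hmono h.le) ?_)
        rw [← hblk j, ← hblk i]
        exact hmono (not_lt.1 hle)
      have h2 := hsσ.inv.conj_apply x (σ i) (σ j)
      rw [inv_inv, hσ', hσσ, hσσ, hv (σ i) (σ j) hlt.le, Matrix.one_apply_ne (σ.injective.ne h.ne), mul_zero] at h2
      have hnz := hsσ.inv.ne_zero (σ j)
      rw [hσ', hσσ] at hnz
      exact (mul_eq_zero.1 h2.symm).resolve_right hnz
  have hd' : d⁻¹ ∈ BB G := uni_le_BB (Subgroup.inv_mem _ hd)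
  have hsun : s * u * n = d⁻¹ * (s * x * n) := by rw [hu2]; group
  have caseA : n⁻¹ * x * n ∈ uni N F →
      ∃ a ∈ BB G, ∃ b ∈ BB G, s * u * n = a * (s * n) * b := fun h =>
    ⟨d⁻¹, hd', n⁻¹ * x * n, uni_le_BB ⟨Subgroup.mul_mem _ (Subgroup.mul_mem _ (Subgroup.inv_mem _ hn.1) hxG.1) hn.1, h⟩, by rw [hsun]; group⟩
  rcases hor n hn with hU | hL
  · exact .inl (caseA (hU x hxG hxL))
  obtain ⟨v, hvd⟩ : ∃ v, v = s * x * s⁻¹ := ⟨_, rfl⟩
  have hvG : v ∈ G := hvd ▸ Subgroup.mul_mem _ (Subgroup.mul_mem _ hs.1 hxG.1) (Subgroup.inv_mem _ hs.1)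
  have hvL : InL lab v := hvd ▸ inL_mul (inL_mul (inL_perm hsσ hblk) hxL) (inL_inv (inL_perm hsσ hblk))
  rw [← hvd] at hv
  obtain ⟨a', ha', m, hm, d', hd'', he', hlow'⟩ := hG v hvG
  obtain ⟨w, hw⟩ := hm.2
  have hpar : ∀ i, lab (w i) = lab i := by
    have hP : ∀ i, lab (w i) ≤ lab i := fun i => by
      by_contra hlt
      refine hw.ne_zero i ?_
      have hme : m = a'⁻¹ * v * d'⁻¹ := by rw [he']; group
      rw [hme, Units.val_mul, Units.val_mul, Matrix.mul_apply]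
      refine Finset.sum_eq_zero fun k _ => ?_
      rcases lt_or_ge i k with h | h
      · rw [uni_below (Subgroup.inv_mem _ hd''.2) h, mul_zero]
      refine mul_eq_zero_of_left ?_ _
      rw [Matrix.mul_apply]
      refine Finset.sum_eq_zero fun l _ => ?_
      rcases lt_or_ge l (w i) with h' | h'
      · rw [uni_below (Subgroup.inv_mem _ ha'.2) h', zero_mul]
      · rw [hvL l k (fun e => hlt (by have := hmono h; have := hmono h'; omega)), mul_zero]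
    have hsum : ∑ i, lab (w i) = ∑ i, lab i := Equiv.sum_comp w lab
    exact fun i => (Finset.sum_eq_sum_iff_of_le (fun i _ => hP i)).1 hsum i (Finset.mem_univ i)
  rcases hopt m hm w hw hpar with rfl | hwσ
  · refine .inl (caseA ?_)
    have hv1 : v = 1 := eq_one_of_low_BB hv (by
      rw [he']; exact Subgroup.mul_mem _ (Subgroup.mul_mem _ (uni_le_BB ha') (dia_le_BB ⟨hm.1, hw⟩)) (uni_le_BB hd''))
    have hx1 : x = 1 := by
      calc x = s⁻¹ * v * s := by rw [hvd]; group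
        _ = 1 := by rw [hv1]; group
    rw [hx1]; simp
  rw [hwσ] at hw hpar
  -- the block diagonal parts of the normal form
  obtain ⟨a₀, ha₀, ha₀L, ha₀e⟩ := exists_blk (lab := lab) ha'.2
  obtain ⟨d₀, hd₀, hd₀L, hd₀e⟩ := exists_blk (lab := lab) hd''.2
  have hmL : InL lab m := inL_perm hw hpar
  have hblkeq : v = a₀ * m * d₀ := by
    refine Units.ext (Matrix.ext fun i j => ?_)
    by_cases hij : lab i = lab j
    · rw [he', Units.val_mul, Units.val_mul, Units.val_mul, Units.val_mul, Matrix.mul_apply, Matrix.mul_apply]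
      refine Finset.sum_congr rfl fun k _ => ?_
      by_cases hk : lab i = lab k
      · rw [hd₀e k j (hk ▸ hij), hw.apply_mul, hw.apply_mul]
        by_cases hz : lab i = lab (σ k)
        · rw [ha₀e i (σ k) hz]
        · exact absurd (hk.trans (hblk k).symm) hz
      · have hzero : ((a₀ : 𝕄) * (m : 𝕄)) i k = 0 := by
          rw [← Units.val_mul]; exact inL_mul ha₀L hmL i k hk
        rw [hzero, zero_mul, hw.apply_mul]
        rcases lt_trichotomy (lab i) (lab k) with h | h | h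
        · refine mul_eq_zero_of_right _ (uni_below hd''.2 ?_)
          by_contra hle
          have := hmono (not_lt.1 hle); omega
        · exact absurd h hk
        · refine mul_eq_zero_of_left (mul_eq_zero_of_left (uni_below ha'.2 ?_) _) _
          by_contra hle
          have := hmono (not_lt.1 hle); have := hblk k; omega
    · rw [hvL i j hij]
      exact ((inL_mul (inL_mul ha₀L hmL) hd₀L) i j hij).symm
  have hlow₀ : m⁻¹ * a₀ * m ∈ low N F := fun i j hij => by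
    refine mul_left_cancel₀ (hw.ne_zero i) ?_
    rw [hw.conj_apply]
    by_cases h : lab (σ i) = lab (σ j)
    · rw [ha₀e _ _ h, ← hw.conj_apply, hlow' i j hij]
    · rw [ha₀L _ _ h, Matrix.one_apply_ne (fun e : i = j => h (e ▸ rfl)), zero_mul, mul_zero]
  obtain ⟨e1, -, e3⟩ := form_unique ha'.2 hd''.2 ha₀ hd₀ hm.2 hm.2 hlow' hlow₀ (he'.symm.trans hblkeq)
  have ha'L : InL lab a' := e1 ▸ ha₀L
  have hd'L : InL lab d' := e3 ▸ hd₀L
  rcases hor (s * n) (Subgroup.mul_mem _ hs hn) with hU' | hL'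
  swap
  · exfalso
    have h1 : (s * n)⁻¹ * v * (s * n) ∈ low N F := by
      rw [show (s * n)⁻¹ * v * (s * n) = n⁻¹ * x * n by rw [hvd]; group]; exact hL x hxG hxL
    have h2 : (s * n)⁻¹ * m * (s * n) ∈ low N F := by
      rw [show (s * n)⁻¹ * m * (s * n) =
          ((s * n)⁻¹ * a' * (s * n))⁻¹ * ((s * n)⁻¹ * v * (s * n)) * ((s * n)⁻¹ * d' * (s * n))⁻¹ by rw [he']; group]
      exact Subgroup.mul_mem _ (Subgroup.mul_mem _ (Subgroup.inv_mem _ (hL' a' ha' ha'L)) h1) (Subgroup.inv_mem _ (hL' d' hd'' hd'L))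
    obtain ⟨z, hz⟩ := Subgroup.mul_mem _ (Subgroup.mul_mem _ (Subgroup.inv_mem _ (Subgroup.mul_mem _ hs.2 hn.2)) hm.2) (Subgroup.mul_mem _ hs.2 hn.2)
    have hz1 : z = 1 := Equiv.ext fun j => by
      by_contra hne
      have := h2 j j le_rfl
      rw [hz j j (fun e => hne e.symm), Matrix.one_apply_eq] at this
      exact zero_ne_one this
    have hmd := conj_dia (Subgroup.mul_mem _ hs.2 hn.2) (show (s * n)⁻¹ * m * (s * n) ∈ dia N F by
      show HasPerm _ 1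
      exact hz1 ▸ hz)
    rw [show s * n * ((s * n)⁻¹ * m * (s * n)) * (s * n)⁻¹ = m by group] at hmd
    exact hσ1 (hw.unique hmd)
  right
  obtain ⟨t, ht⟩ : ∃ t, t = s⁻¹ * m := ⟨_, rfl⟩
  have htd : t ∈ dia N F := by
    have := hsσ.inv.mul hw
    rw [inv_mul_cancel] at this
    exact ht ▸ this
  have hsts : s * t * s ∈ dia N F := by
    have := (hsσ.mul (htd : HasPerm t 1)).mul hsσ
    rw [mul_one, hσ2] at this
    exact this
  refine ⟨d⁻¹ * a', Subgroup.mul_mem _ hd' (uni_le_BB ha'), (n⁻¹ * (s * t * s) * n) * ((s * n)⁻¹ * d' * (s * n)),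
    Subgroup.mul_mem _ (dia_le_BB ⟨Subgroup.mul_mem _ (Subgroup.mul_mem _ (Subgroup.inv_mem _ hn.1) (Subgroup.mul_mem _ (Subgroup.mul_mem _ hs.1 (ht ▸ Subgroup.mul_mem _ (Subgroup.inv_mem _ hs.1) hm.1)) hs.1)) hn.1,
      conj_dia' hn.2 hsts⟩) (uni_le_BB ⟨Subgroup.mul_mem _ (Subgroup.mul_mem _ (Subgroup.inv_mem _ (Subgroup.mul_mem _ hs.1 hn.1)) hd''.1) (Subgroup.mul_mem _ hs.1 hn.1), hU' d' hd'' hd'L⟩), ?_⟩
  rw [hsun, show s * x * n = v * (s * n) by rw [hvd]; group, he', ht]; group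

theorem step_conj {s τ : Γ} (hτG : ∀ g, τ * g * τ⁻¹ ∈ G ↔ g ∈ G) (hτU : ∀ u ∈ G ⊓ uni N F, τ⁻¹ * u * τ ∈ uni N F)
    (hτm : τ ∈ mono N F) (h : Step G s) : Step G (τ * s * τ⁻¹) := by
  have hG' : ∀ g ∈ G, τ⁻¹ * g * τ ∈ G := fun g hg => (hτG _).1 (by
    rwa [show τ * (τ⁻¹ * g * τ) * τ⁻¹ = g by group])
  have hU' : ∀ b ∈ BB G, τ * b * τ⁻¹ ∈ BB G := by
    have hsub : ∀ u ∈ G ⊓ uni N F, τ * u * τ⁻¹ ∈ G ⊓ uni N F := by
      -- conjugation is injective on a finite set it preserves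
      have hmaps : Set.MapsTo (fun u => τ⁻¹ * u * τ) (G ⊓ uni N F : Subgroup Γ) (G ⊓ uni N F : Subgroup Γ) :=
        fun u hu => ⟨hG' u hu.1, hτU u hu⟩
      intro u hu
      obtain ⟨v, hv, hvu⟩ := (Set.Finite.surjOn_iff_bijOn_of_mapsTo (Set.toFinite _) hmaps).2
        ⟨hmaps, fun a _ b _ e => mul_left_cancel (mul_right_cancel e), by
          exact ((Set.toFinite _).injOn_iff_bijOn_of_mapsTo hmaps).1 (fun a _ b _ e => mul_left_cancel (mul_right_cancel e)) |>.surjOn⟩ hu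
      rw [← hvu]
      simpa [mul_assoc] using hv
    rintro b ⟨u, hu, t, ht, rfl⟩
    exact ⟨τ * u * τ⁻¹, hsub u hu, τ * t * τ⁻¹, ⟨(hτG t).2 ht.1, conj_dia hτm ht.2⟩, by group⟩
  intro u hu n hn
  rcases h _ ⟨hG' u hu.1, hτU u hu⟩ _ ⟨hG' n hn.1, Subgroup.mul_mem _ (Subgroup.mul_mem _ (Subgroup.inv_mem _ hτm) hn.2) hτm⟩ with ⟨a, ha, b, hb, e⟩ | ⟨a, ha, b, hb, e⟩
  · refine .inl ⟨τ * a * τ⁻¹, hU' a ha, τ * b * τ⁻¹, hU' b hb, ?_⟩
    calc τ * s * τ⁻¹ * u * n = τ * (s * (τ⁻¹ * u * τ) * (τ⁻¹ * n * τ)) * τ⁻¹ := by group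
      _ = _ := by rw [e]; group
  · refine .inr ⟨τ * a * τ⁻¹, hU' a ha, τ * b * τ⁻¹, hU' b hb, ?_⟩
    calc τ * s * τ⁻¹ * u * n = τ * (s * (τ⁻¹ * u * τ) * (τ⁻¹ * n * τ)) * τ⁻¹ := by group
      _ = _ := by rw [e]; group

/-- The data of a (B,N)-pair of matrices. -/
structure Frame (G N₀ : Subgroup Γ) (S : Set Γ) : Prop where
  N₀_le : N₀ ≤ G ⊓ mono N F
  dia_le : G ⊓ dia N F ≤ N₀
  S_le : S ⊆ N₀
  gen : ∀ n ∈ N₀, ∃ k ∈ Subgroup.closure S, k⁻¹ * n ∈ dia N F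
  sq : ∀ s ∈ S, s * s ∈ dia N F
  inj : ∀ s ∈ S, ∀ s' ∈ S, s⁻¹ * s' ∈ dia N F → s = s'
  step : ∀ s ∈ S, Step G s
  ne : ∀ s ∈ S, ∃ u ∈ G ⊓ uni N F, s⁻¹ * u * s ∉ BB G
  opp : ∃ n ∈ N₀, ∀ u ∈ G ⊓ uni N F, n⁻¹ * u * n ∈ BB G → u = 1

variable {N₀ : Subgroup (GL (Fin N) F)} {S : Set (GL (Fin N) F)}

/-- The group of a frame. -/
def Frame.grp (_ : Frame G N₀ S) : Subgroup Γ := Subgroup.closure (↑(G ⊓ uni N F) ∪ ↑N₀)

theorem Frame.uni_le (fr : Frame G N₀ S) : G ⊓ uni N F ≤ fr.grp :=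
  fun _ hu => Subgroup.subset_closure (.inl hu)

theorem Frame.N_le (fr : Frame G N₀ S) : N₀ ≤ fr.grp := fun _ hn => Subgroup.subset_closure (.inr hn)

theorem Frame.B_le (fr : Frame G N₀ S) : BB G ≤ fr.grp := by
  rintro b ⟨u, hu, t, ht, rfl⟩
  exact Subgroup.mul_mem _ (fr.uni_le hu) (fr.N_le (fr.dia_le ht))

theorem Frame.grp_le (fr : Frame G N₀ S) : fr.grp ≤ G :=
  (Subgroup.closure_le _).2 (Set.union_subset (fun _ h => h.1) fun _ h => (fr.N₀_le h).1)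

/-- The (B,N)-pair of a frame. -/
def Frame.pair (fr : Frame G N₀ S) : Cfsg.BNPair fr.grp where
  B := (BB G).subgroupOf fr.grp
  N := N₀.subgroupOf fr.grp
  S := {x | (x : Γ) ∈ S}
  sup_eq_top := by
    rw [eq_top_iff]
    intro x _
    have h : (x : Γ) ∈ ((BB G).subgroupOf fr.grp ⊔ N₀.subgroupOf fr.grp).map fr.grp.subtype := by
      rw [Subgroup.map_sup, Subgroup.map_subgroupOf_eq_of_le fr.B_le, Subgroup.map_subgroupOf_eq_of_le fr.N_le]
      refine (Subgroup.closure_le _).2 ?_ x.2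
      rintro y (hy | hy)
      exacts [Subgroup.mem_sup_left (uni_le_BB hy), Subgroup.mem_sup_right hy]
    obtain ⟨y, hy, e⟩ := h
    rwa [← Subtype.ext e]
  conj_mem n hn t ht := by
    have h := BB_mono ht.1 (fr.N₀_le ht.2).2
    exact dia_le_BB ⟨Subgroup.mul_mem _ (Subgroup.mul_mem _ (fr.N₀_le hn).1 h.1) (Subgroup.inv_mem _ (fr.N₀_le hn).1), conj_dia (fr.N₀_le hn).2 h.2⟩
  subset _ hs := fr.S_le hs
  sq_mem s hs := dia_le_BB ⟨Subgroup.mul_mem _ (fr.N₀_le (fr.S_le hs)).1 (fr.N₀_le (fr.S_le hs)).1, fr.sq _ hs⟩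
  inj s hs s' hs' h :=
    Subtype.ext (fr.inj _ hs _ hs' (BB_mono h (Subgroup.mul_mem _ (Subgroup.inv_mem _ (fr.N₀_le (fr.S_le hs)).2) (fr.N₀_le (fr.S_le hs')).2)).2)
  closure_sup := by
    refine le_antisymm (sup_le ((Subgroup.closure_le _).2 fun s hs => fr.S_le hs) inf_le_right) fun n hn => ?_
    obtain ⟨k, hk, hkd⟩ := fr.gen _ hn
    have hk' : k ∈ (Subgroup.closure {x : fr.grp | (x : Γ) ∈ S}).map fr.grp.subtype := by
      rw [MonoidHom.map_closure]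
      convert hk using 2
      ext y
      exact ⟨fun ⟨x, hx, e⟩ => e ▸ hx, fun hy => ⟨⟨y, fr.N_le (fr.S_le hy)⟩, hy, rfl⟩⟩
    obtain ⟨k', hk', rfl⟩ := hk'
    have hkN : (k' : Γ) ∈ N₀ :=
      (Subgroup.closure_le (K := N₀.subgroupOf fr.grp)).2 (fun s hs => fr.S_le hs) hk'
    have : n = k' * (k'⁻¹ * n) := by group
    rw [this]
    refine Subgroup.mul_mem _ (Subgroup.mem_sup_left hk') (Subgroup.mem_sup_right ⟨dia_le_BB ⟨?_, hkd⟩, ?_⟩)
    · exact Subgroup.mul_mem _ (Subgroup.inv_mem _ (fr.N₀_le hkN).1) (fr.N₀_le hn).1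
    · exact N₀.mul_mem (N₀.inv_mem hkN) hn
  mul_mem_union s hs n hn b hb := by
    obtain ⟨u, hu, t, ht, hbe⟩ := hb
    have hnG := fr.N₀_le hn
    have ht' : (n : Γ)⁻¹ * t * n ∈ BB G :=
      dia_le_BB ⟨Subgroup.mul_mem _ (Subgroup.mul_mem _ (Subgroup.inv_mem _ hnG.1) ht.1) hnG.1, conj_dia' hnG.2 ht.2⟩
    have e : (s : Γ) * b * n = s * u * n * ((n : Γ)⁻¹ * t * n) := by rw [show (b : Γ) = _ from hbe]; group
    rcases fr.step _ hs u hu n hnG with ⟨a, ha, c, hc, e'⟩ | ⟨a, ha, c, hc, e'⟩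
    · refine .inl (DoubleCoset.mem_doubleCoset.2 ⟨⟨a, fr.B_le ha⟩, ha, ⟨c * ((n : Γ)⁻¹ * t * n), fr.B_le (Subgroup.mul_mem _ hc ht')⟩,
        Subgroup.mul_mem _ hc ht', Subtype.ext ?_⟩)
      show (s : Γ) * b * n = a * (s * n) * (c * ((n : Γ)⁻¹ * t * n))
      rw [e, e']; group
    · refine .inr (DoubleCoset.mem_doubleCoset.2 ⟨⟨a, fr.B_le ha⟩, ha, ⟨c * ((n : Γ)⁻¹ * t * n), fr.B_le (Subgroup.mul_mem _ hc ht')⟩,
        Subgroup.mul_mem _ hc ht', Subtype.ext ?_⟩)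
      show (s : Γ) * b * n = a * n * (c * ((n : Γ)⁻¹ * t * n))
      rw [e, e']; group
  conj_ne s hs h := by
    obtain ⟨u, hu, hnot⟩ := fr.ne _ hs
    have h1 : ∀ y ∈ G ⊓ uni N F, (s : Γ) * y * s ∈ BB G := fun y hy =>
      h.subset ⟨⟨y, fr.uni_le hy⟩, uni_le_BB hy, rfl⟩
    have h2 := h1 1 (one_mem _)
    rw [mul_one] at h2
    refine hnot ?_
    rw [show (s : Γ)⁻¹ * u * s = ((s : Γ) * s)⁻¹ * (s * u * s) by group]
    exact Subgroup.mul_mem _ (Subgroup.inv_mem _ h2) (h1 u hu)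

theorem isPGroup_uni {p : ℕ} [Fact p.Prime] [CharP F p] : IsPGroup p (uni N F) := by
  haveI := Fintype.ofFinite F
  obtain ⟨k, hk, hcard⟩ := FiniteField.card F p
  have h : Nat.card (uni N F) = Nat.card (pat (fun i j : Fin N => i < j) : Set Γ) :=
    Nat.card_congr (Equiv.subtypeEquivRight fun g =>
      ⟨fun h i j hij => h i j (not_lt.1 hij), fun h i j hji => h i j (not_lt.2 hji)⟩)
  rw [card_pat (fun _ _ h => h), Nat.card_eq_fintype_card (α := F), hcard, ← pow_mul] at h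
  exact IsPGroup.of_card h

theorem dia_coprime {p : ℕ} [hp : Fact p.Prime] [CharP F p] (H : Subgroup Γ) (hH : H ≤ dia N F) : ¬ p ∣ Nat.card H := by
  intro hd
  obtain ⟨t, ht⟩ := exists_prime_orderOf_dvd_card' p hd
  have hperm : HasPerm (t : Γ) 1 := hH t.2
  have hpow : ∀ k : ℕ, ∀ i, (((t : Γ) ^ k : Γ) : 𝕄) i i = (((t : Γ) : 𝕄) i i) ^ k := fun k i => by
    induction k with
    | zero => simp
    | succ k ih =>
      rw [pow_succ, Units.val_mul, hperm.apply_mul]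
      simp only [Equiv.Perm.coe_one, id_eq]
      rw [ih, pow_succ]
  have h1 : (t : Γ) = 1 := by
    refine Units.ext (Matrix.ext fun i j => ?_)
    rcases eq_or_ne i j with rfl | hne
    · haveI : ExpChar F p := ExpChar.prime hp.out
      rw [Units.val_one, Matrix.one_apply_eq]
      refine frobenius_inj F p ?_
      rw [frobenius_def, frobenius_def, one_pow, ← hpow, show ((t : Γ) ^ p) = 1 by
        rw [← Subgroup.coe_pow, ← ht, pow_orderOf_eq_one]; rfl]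
      simp
    · rw [hperm i j (by simpa using hne)]
      exact (Matrix.one_apply_ne hne).symm
  have : t = 1 := Subtype.ext h1
  rw [this, orderOf_one] at ht
  exact hp.out.one_lt.ne ht

theorem Frame.split (fr : Frame G N₀ S) {p : ℕ} [Fact p.Prime] [CharP F p] :
    Split fr.pair p ((G ⊓ uni N F).subgroupOf fr.grp) := by
  refine ⟨?_, fun u hu => uni_le_BB hu, fun b hb u hu => ?_, fun b hb => ?_, ?_, ?_⟩
  · exact ((isPGroup_uni (p := p)).to_le inf_le_right).comap_of_injective _ fr.grp.subtype_injective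
  · obtain ⟨v, hv, t, ht, hbe⟩ := (hb : (b : Γ) ∈ BB G)
    show (b : Γ) * u * (b : Γ)⁻¹ ∈ G ⊓ uni N F
    have e : (b : Γ) * u * (b : Γ)⁻¹ = v * (t * u * t⁻¹) * v⁻¹ := by rw [show (b : Γ) = _ from hbe]; group
    rw [e]
    exact Subgroup.mul_mem _ (Subgroup.mul_mem _ hv ⟨Subgroup.mul_mem _ (Subgroup.mul_mem _ ht.1 (hu : (u : Γ) ∈ G ⊓ uni N F).1) (Subgroup.inv_mem _ ht.1),
      dia_conj_uni ht.2 (hu : (u : Γ) ∈ G ⊓ uni N F).2⟩) (Subgroup.inv_mem _ hv)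
  · obtain ⟨v, hv, t, ht, hbe⟩ := (hb : (b : Γ) ∈ BB G)
    exact ⟨⟨v, fr.uni_le hv⟩, hv, ⟨t, fr.N_le (fr.dia_le ht)⟩, ⟨dia_le_BB ht, fr.dia_le ht⟩, Subtype.ext hbe⟩
  · intro h
    refine dia_coprime ((fr.pair.B ⊓ fr.pair.N).map fr.grp.subtype) ?_
      (h.trans (dvd_of_eq (Nat.card_congr (Subgroup.equivMapOfInjective _ _ fr.grp.subtype_injective).toEquiv)))
    rintro _ ⟨x, ⟨hxB, hxN⟩, rfl⟩
    exact (BB_mono hxB (fr.N₀_le hxN).2).2
  · obtain ⟨n, hn, hopp⟩ := fr.opp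
    exact ⟨⟨n, fr.N_le hn⟩, hn, fun u hu h => Subtype.ext (hopp _ hu h)⟩

end Cfsg.Agent.Lib.ClassicalBN
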