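import Mathlib

/-!
Signed permutations: permutations of `Fin N` commuting with the order reversal.
-/

set_option autoImplicit false

namespace Cfsg.Agent.Lib.ClassicalBN

open Equiv

variable {N : ℕ}

/-- Commuting with the reversal. -/
def CommRev (w : Perm (Fin N)) : Prop := ∀ i, w (Fin.rev i) = Fin.rev (w i)

theorem CommRev.mul {v w : Perm (Fin N)} (hv : CommRev v) (hw : CommRev w) : CommRev (v * w) := fun i => by
  simp [hw i, hv (w i)]

/-- A simultaneous swap of two pairs. -/
def pairSwap (i j : Fin N) : Perm (Fin N) := swap i j * swap (Fin.rev i) (Fin.rev j)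

/-- The swap inside a pair. -/
def flipPair (i : Fin N) : Perm (Fin N) := swap i (Fin.rev i)

theorem conj_swap (g : Perm (Fin N)) (i j : Fin N) : g * swap i j * g⁻¹ = swap (g i) (g j) := by
  rw [← swap_apply_apply]

theorem conj_pairSwap {g : Perm (Fin N)} (hg : CommRev g) (i j : Fin N) :
    g * pairSwap i j * g⁻¹ = pairSwap (g i) (g j) := by
  rw [pairSwap, pairSwap, ← hg i, ← hg j, ← conj_swap, ← conj_swap]; group

theorem conj_flipPair {g : Perm (Fin N)} (hg : CommRev g) (i : Fin N) :
    g * flipPair i * g⁻¹ = flipPair (g i) := by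
  rw [flipPair, flipPair, ← hg i, conj_swap]

theorem commRev_flipPair (i : Fin N) : CommRev (flipPair i) := fun x => by
  rcases eq_or_ne x i with rfl | h1
  · simp [flipPair]
  rcases eq_or_ne x (Fin.rev i) with rfl | h2
  · simp [flipPair]
  rw [flipPair, swap_apply_of_ne_of_ne (fun e => h2 (by rw [← e, Fin.rev_rev])) (fun e => h1 (Fin.rev_injective e)),
    swap_apply_of_ne_of_ne h1 h2]

/-- The four distinct indices of two pairs. -/
structure Apart (i j : Fin N) : Prop where
  ne : i ≠ j
  ne_rev : i ≠ Fin.rev j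
  fi : Fin.rev i ≠ i
  fj : Fin.rev j ≠ j

theorem Apart.rev_ne {i j : Fin N} (h : Apart i j) : Fin.rev i ≠ j := fun e => h.ne_rev (by rw [← e, Fin.rev_rev])

theorem pairSwap_apply_left {i j : Fin N} (h : Apart i j) : pairSwap i j i = j := by
  rw [pairSwap, Perm.mul_apply, swap_apply_of_ne_of_ne h.fi.symm h.ne_rev, swap_apply_left]

theorem pairSwap_apply_right {i j : Fin N} (h : Apart i j) : pairSwap i j j = i := by
  rw [pairSwap, Perm.mul_apply, swap_apply_of_ne_of_ne h.rev_ne.symm h.fj.symm, swap_apply_right]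

theorem pairSwap_apply_other {i j k : Fin N} (h1 : k ≠ i) (h2 : k ≠ j) (h3 : k ≠ Fin.rev i) (h4 : k ≠ Fin.rev j) :
    pairSwap i j k = k := by
  rw [pairSwap, Perm.mul_apply, swap_apply_of_ne_of_ne h3 h4, swap_apply_of_ne_of_ne h1 h2]

theorem commRev_pairSwap {i j : Fin N} (h : Apart i j) : CommRev (pairSwap i j) := by
  have hri : pairSwap i j (Fin.rev i) = Fin.rev j := by
    rw [pairSwap, Perm.mul_apply, swap_apply_left, swap_apply_of_ne_of_ne h.ne_rev.symm h.fj]
  have hrj : pairSwap i j (Fin.rev j) = Fin.rev i := by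
    rw [pairSwap, Perm.mul_apply, swap_apply_right, swap_apply_of_ne_of_ne h.fi h.rev_ne]
  intro x
  rcases eq_or_ne x i with rfl | h1
  · rw [hri, pairSwap_apply_left h]
  rcases eq_or_ne x j with rfl | h2
  · rw [hrj, pairSwap_apply_right h]
  rcases eq_or_ne x (Fin.rev i) with rfl | h3
  · rw [Fin.rev_rev, hri, pairSwap_apply_left h, Fin.rev_rev]
  rcases eq_or_ne x (Fin.rev j) with rfl | h4
  · rw [Fin.rev_rev, hrj, pairSwap_apply_right h, Fin.rev_rev]
  rw [pairSwap_apply_other h1 h2 h3 h4,
    pairSwap_apply_other (fun e => h3 (by rw [← e, Fin.rev_rev])) (fun e => h4 (by rw [← e, Fin.rev_rev]))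
      (fun e => h1 (Fin.rev_injective e)) (fun e => h2 (Fin.rev_injective e))]

/-- The generators for `m` pairs. -/
def gens (N m : ℕ) : Set (Perm (Fin N)) :=
  {g | ∃ i j : Fin N, i.val + 1 = j.val ∧ j.val < m ∧ g = pairSwap i j} ∪ {g | ∃ i : Fin N, i.val + 1 = m ∧ g = flipPair i}

theorem apart_of_lt {m : ℕ} (hm : 2 * m ≤ N) {i j : Fin N} (h : i.val < j.val) (hj : j.val < m) : Apart i j := by
  constructor <;> intro e <;> have := congrArg Fin.val e <;> (try simp only [Fin.val_rev] at this) <;> omega

theorem pairSwap_mem {m : ℕ} (hm : 2 * m ≤ N) : ∀ (d : ℕ) (i j : Fin N), i.val + d + 1 = j.val → j.val < m →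
    pairSwap i j ∈ Subgroup.closure (gens N m) := by
  intro d
  induction d with
  | zero => exact fun i j h hj => Subgroup.subset_closure (.inl ⟨i, j, h, hj, rfl⟩)
  | succ d ih =>
    intro i j h hj
    obtain ⟨k, hk⟩ : ∃ k : Fin N, k.val + 1 = j.val := ⟨⟨j.val - 1, by omega⟩, by simp; omega⟩
    have hkj : pairSwap k j ∈ Subgroup.closure (gens N m) := Subgroup.subset_closure (.inl ⟨k, j, hk, hj, rfl⟩)
    have ha := apart_of_lt hm (show k.val < j.val by omega) hj
    have hi : pairSwap k j i = i := pairSwap_apply_other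
      (fun e => by have := congrArg Fin.val e; omega) (fun e => by have := congrArg Fin.val e; omega)
      (fun e => by have := congrArg Fin.val e; simp only [Fin.val_rev] at this; omega)
      (fun e => by have := congrArg Fin.val e; simp only [Fin.val_rev] at this; omega)
    have h2 := conj_pairSwap (commRev_pairSwap ha) i k
    rw [hi, pairSwap_apply_left ha] at h2
    rw [← h2]
    exact mul_mem (mul_mem hkj (ih i k (by omega) (by omega))) (inv_mem hkj)

theorem flipPair_rev (i : Fin N) : flipPair (Fin.rev i) = flipPair i := by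
  rw [flipPair, flipPair, Fin.rev_rev, swap_comm]

theorem flipPair_mem {m : ℕ} (hm : 2 * m ≤ N) {i : Fin N} (hi : i.val < m ∨ (Fin.rev i).val < m) :
    flipPair i ∈ Subgroup.closure (gens N m) := by
  wlog h : i.val < m generalizing i with H
  · rw [← flipPair_rev]
    exact H (Or.inl (hi.resolve_left h)) (hi.resolve_left h)
  obtain ⟨l, hl⟩ : ∃ l : Fin N, l.val + 1 = m := ⟨⟨m - 1, by omega⟩, by simp; omega⟩
  have hb : flipPair l ∈ Subgroup.closure (gens N m) := Subgroup.subset_closure (.inr ⟨l, hl, rfl⟩)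
  rcases eq_or_ne i.val l.val with e | e
  · rwa [Fin.ext e]
  have ha := apart_of_lt hm (show i.val < l.val by omega) (by omega)
  have hp := pairSwap_mem hm (l.val - i.val - 1) i l (by omega) (by omega)
  have h2 := conj_flipPair (commRev_pairSwap ha) l
  rw [pairSwap_apply_right ha] at h2
  rw [← h2]
  exact mul_mem (mul_mem hp hb) (inv_mem hp)

/-- A non-middle index. -/
def Outer (m : ℕ) (i : Fin N) : Prop := i.val < m ∨ (Fin.rev i).val < m

theorem pairSwap_comm (i j : Fin N) : pairSwap j i = pairSwap i j := by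
  rw [pairSwap, pairSwap, swap_comm j i, swap_comm (Fin.rev j) (Fin.rev i)]

theorem pairSwap_mem' {m : ℕ} (hm : 2 * m ≤ N) {i j : Fin N} (hi : Outer m i) (hj : Outer m j) (h1 : i ≠ j)
    (h2 : i ≠ Fin.rev j) : pairSwap i j ∈ Subgroup.closure (gens N m) := by
  wlog hi' : i.val < m generalizing i with H
  · have h3 := H (i := Fin.rev i) (Or.inl (hi.resolve_left hi')) (fun e => h2 (by rw [← e, Fin.rev_rev]))
      (fun e => h1 (Fin.rev_injective e)) (hi.resolve_left hi')
    have hf : flipPair i j = j :=
      swap_apply_of_ne_of_ne h1.symm (fun e => h2 (by rw [e, Fin.rev_rev]))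
    have h4 := conj_pairSwap (commRev_flipPair i) (Fin.rev i) j
    rw [flipPair, swap_apply_right, ← flipPair, hf] at h4
    rw [← h4]
    exact mul_mem (mul_mem (flipPair_mem hm hi) h3) (inv_mem (flipPair_mem hm hi))
  wlog hj' : j.val < m generalizing j with H
  · have h3 := H (j := Fin.rev j) (Or.inl (hj.resolve_left hj')) h2 (by rwa [Fin.rev_rev]) (hj.resolve_left hj')
    have hf : flipPair j i = i := swap_apply_of_ne_of_ne h1 h2
    have h4 := conj_pairSwap (commRev_flipPair j) i (Fin.rev j)
    rw [hf, flipPair, swap_apply_right, ← flipPair] at h4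
    rw [← h4]
    exact mul_mem (mul_mem (flipPair_mem hm hj) h3) (inv_mem (flipPair_mem hm hj))
  rcases lt_trichotomy i.val j.val with h | h | h
  · exact pairSwap_mem hm (j.val - i.val - 1) i j (by omega) hj'
  · exact absurd (Fin.ext h) h1
  · rw [← pairSwap_comm]
    exact pairSwap_mem hm (i.val - j.val - 1) j i (by omega) hi'

/-- Signed permutations fixing the middle are generated by the standard generators. -/
theorem mem_closure_gens {m : ℕ} (hm : 2 * m ≤ N) (w : Perm (Fin N)) (hw : CommRev w)
    (hmid : ∀ i, ¬ Outer m i → w i = i) : w ∈ Subgroup.closure (gens N m) := by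
  induction hk : w.support.card using Nat.strong_induction_on generalizing w with
  | _ k ih =>
  subst hk
  by_cases h1 : w = 1
  · rw [h1]; exact one_mem _
  obtain ⟨i, hi⟩ : ∃ i, w i ≠ i := by
    by_contra! hc
    exact h1 (Equiv.ext hc)
  have hio : Outer m i := by_contra fun h => hi (hmid i h)
  have hjo : Outer m (w i) := by_contra fun h => hi (w.injective (hmid _ h))
  have hfix : ∀ {x : Fin N}, Outer m x → Fin.rev x ≠ x := fun {x} hx e => by
    have := congrArg Fin.val e
    rcases hx with h | h <;> simp only [Fin.val_rev] at this h <;> omega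
  obtain ⟨g, hg, hgc, hgi, hgo⟩ : ∃ g ∈ Subgroup.closure (gens N m), CommRev g ∧ g (w i) = i ∧
      ∀ x, x ≠ i → x ≠ Fin.rev i → x ≠ w i → x ≠ Fin.rev (w i) → g x = x := by
    by_cases hr : w i = Fin.rev i
    · exact ⟨flipPair i, flipPair_mem hm hio, commRev_flipPair i, by rw [hr, flipPair, swap_apply_right],
        fun x a b _ _ => swap_apply_of_ne_of_ne a b⟩
    · have hne : i ≠ Fin.rev (w i) := fun e => hr (by conv_rhs => rw [e, Fin.rev_rev])
      exact ⟨pairSwap i (w i), pairSwap_mem' hm hio hjo (Ne.symm hi) hne,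
        commRev_pairSwap ⟨Ne.symm hi, hne, hfix hio, hfix hjo⟩, pairSwap_apply_right ⟨Ne.symm hi, hne, hfix hio, hfix hjo⟩,
        fun x a b c d => pairSwap_apply_other a c b d⟩
  have hkeep : ∀ x, w x = x → g (w x) = x := fun x hx => by
    rw [hx]
    refine hgo x ?_ ?_ ?_ ?_
    · rintro rfl; exact hi hx
    · rintro rfl; exact hi (Fin.rev_injective ((hw i).symm.trans hx))
    · intro e; exact hi (w.injective (e ▸ hx))
    · intro e; exact hi (w.injective (Fin.rev_injective ((hw (w i)).symm.trans (e ▸ hx))))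
  have hlt : (g * w).support.card < w.support.card := by
    refine Finset.card_lt_card ⟨fun x hx => ?_, fun hsub => ?_⟩
    · rw [Perm.mem_support] at hx ⊢
      exact fun h => hx (hkeep x h)
    · exact (Perm.mem_support.1 (hsub (Perm.mem_support.2 hi))) hgi
  have h2 := ih _ hlt (g * w) (hgc.mul hw) (fun x hx => hkeep x (hmid x hx)) rfl
  rw [show w = g⁻¹ * (g * w) by group]
  exact mul_mem (inv_mem hg) h2

end Cfsg.Agent.Lib.ClassicalBN
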