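import Mathlib
import Cfsg.Agent.Lib.ClassicalBN.Frame
import Cfsg.Agent.Lib.ClassicalBN.Perms

/-!
Isometry groups of anti-diagonal sesquilinear forms.
-/

set_option autoImplicit false

namespace Cfsg.Agent.Lib.ClassicalBN

open scoped Matrix

variable {F : Type*} [Field F] [Finite F] {N : ℕ}

/-- An anti-diagonal form: `∑ ε_k x_k φ(y_{rev k})`. -/
structure AForm (F : Type*) [Field F] (N : ℕ) where
  phi : F →+* F
  invol : ∀ x, phi (phi x) = x
  eps : Fin N → F
  ne : ∀ i, eps i ≠ 0
  eta : F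
  sym : ∀ i, eps (Fin.rev i) = eta * phi (eps i)

namespace AForm

variable (M : AForm F N)

/-- Its matrix. -/
def mat : Matrix (Fin N) (Fin N) F := Matrix.of fun i j => if j = Fin.rev i then M.eps i else 0

omit [Finite F] in
theorem mul_mat_apply (A : Matrix (Fin N) (Fin N) F) (i j : Fin N) :
    (A * M.mat) i j = A i (Fin.rev j) * M.eps (Fin.rev j) := by
  rw [Matrix.mul_apply, Finset.sum_eq_single (Fin.rev j)]
  · simp [mat]
  · intro k _ hk
    simp only [mat, Matrix.of_apply]
    rw [if_neg fun e : j = Fin.rev k => hk (by rw [e, Fin.rev_rev]), mul_zero]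
  · simp

omit [Finite F] in
theorem mat_mul_apply (A : Matrix (Fin N) (Fin N) F) (i j : Fin N) :
    (M.mat * A) i j = M.eps i * A (Fin.rev i) j := by
  rw [Matrix.mul_apply, Finset.sum_eq_single (Fin.rev i)]
  · simp [mat]
  · intro k _ hk
    simp only [mat, Matrix.of_apply]
    rw [if_neg hk, zero_mul]
  · simp

/-- The isometry group. -/
def grp : Subgroup (GL (Fin N) F) :=
  ofClosed {g | (g : Matrix (Fin N) (Fin N) F)ᵀ * M.mat * M.phi.mapMatrix (g : Matrix (Fin N) (Fin N) F) = M.mat}
    (by simp) fun a b ha hb => by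
      simp only [Set.mem_setOf_eq] at ha hb ⊢
      calc ((a * b : GL (Fin N) F) : Matrix (Fin N) (Fin N) F)ᵀ * M.mat * M.phi.mapMatrix ((a * b : GL (Fin N) F) : Matrix (Fin N) (Fin N) F)
          = (b : Matrix (Fin N) (Fin N) F)ᵀ * ((a : Matrix (Fin N) (Fin N) F)ᵀ * M.mat * M.phi.mapMatrix (a : Matrix (Fin N) (Fin N) F)) *
              M.phi.mapMatrix (b : Matrix (Fin N) (Fin N) F) := by
            simp only [Units.val_mul, Matrix.transpose_mul, map_mul, mul_assoc]
        _ = M.mat := by rw [ha]; exact hb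

theorem mem_grp {g : GL (Fin N) F} :
    g ∈ M.grp ↔ (g : Matrix (Fin N) (Fin N) F)ᵀ * M.mat * M.phi.mapMatrix (g : Matrix (Fin N) (Fin N) F) = M.mat := Iff.rfl

theorem mem_grp_iff {g : GL (Fin N) F} :
    g ∈ M.grp ↔ ∀ i j, ∑ k, (g : Matrix (Fin N) (Fin N) F) k i * M.eps k * M.phi ((g : Matrix (Fin N) (Fin N) F) (Fin.rev k) j) =
      if j = Fin.rev i then M.eps i else 0 := by
  rw [mem_grp, ← Matrix.ext_iff]
  refine forall_congr' fun i => forall_congr' fun j => ?_
  rw [Matrix.mul_apply]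
  constructor <;> intro h
  · rw [← Equiv.sum_comp Fin.revPerm] at h
    simp only [M.mul_mat_apply, Matrix.transpose_apply, RingHom.mapMatrix_apply, Matrix.map_apply, Fin.revPerm_apply, Fin.rev_rev] at h
    exact h.trans (by simp [mat])
  · rw [← Equiv.sum_comp Fin.revPerm]
    simp only [M.mul_mat_apply, Matrix.transpose_apply, RingHom.mapMatrix_apply, Matrix.map_apply, Fin.revPerm_apply, Fin.rev_rev]
    exact h.trans (by simp [mat])

/-- `φ` applied to the matrix of the form, as a unit. -/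
noncomputable def antiUnit : GL (Fin N) F where
  val := M.phi.mapMatrix M.mat
  inv := Matrix.of fun i j => if j = Fin.rev i then (M.phi (M.eps j))⁻¹ else 0
  val_inv := by
    ext i j
    rw [Matrix.mul_apply, Finset.sum_eq_single (Fin.rev i)]
    · rcases eq_or_ne j i with rfl | h
      · simp [mat, mul_inv_cancel₀ ((map_ne_zero M.phi).2 (M.ne j))]
      · simp [mat, h, Matrix.one_apply_ne h.symm]
    · intro k _ hk; simp [mat, hk]
    · simp
  inv_val := by
    ext i j
    rw [Matrix.mul_apply, Finset.sum_eq_single (Fin.rev i)]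
    · rcases eq_or_ne j i with rfl | h
      · simp [mat, inv_mul_cancel₀ ((map_ne_zero M.phi).2 (M.ne (Fin.rev j)))]
      · simp [mat, h, Matrix.one_apply_ne h.symm]
    · intro k _ hk; simp [mat, hk]
    · simp

theorem hasPerm_antiUnit : HasPerm M.antiUnit Fin.revPerm := fun i j h => by
  show M.phi (M.mat i j) = 0
  simp only [mat, Matrix.of_apply]
  rw [if_neg fun e : j = Fin.rev i => h (by rw [Fin.revPerm_apply, e, Fin.rev_rev]), map_zero]

/-- `φ` of the inverse transpose. -/
def contra (g : GL (Fin N) F) : GL (Fin N) F where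
  val := M.phi.mapMatrix ((g⁻¹ : GL (Fin N) F) : Matrix (Fin N) (Fin N) F)ᵀ
  inv := M.phi.mapMatrix (g : Matrix (Fin N) (Fin N) F)ᵀ
  val_inv := by rw [← map_mul, ← Matrix.transpose_mul, Units.mul_inv, Matrix.transpose_one, map_one]
  inv_val := by rw [← map_mul, ← Matrix.transpose_mul, Units.inv_mul, Matrix.transpose_one, map_one]

omit [Finite F] in
theorem contra_apply (g : GL (Fin N) F) (i j : Fin N) :
    (M.contra g : Matrix (Fin N) (Fin N) F) i j = M.phi (((g⁻¹ : GL (Fin N) F) : Matrix (Fin N) (Fin N) F) j i) := rfl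

theorem nform : NForm M.grp := by
  refine nform_top.fix le_top (fun g => M.antiUnit⁻¹ * M.contra g * M.antiUnit) ?_ ?_ ?_ ?_ ?_
  · intro a _ b _
    have h : M.contra (a * b) = M.contra a * M.contra b := Units.ext (by
      show M.phi.mapMatrix (((a * b)⁻¹ : GL (Fin N) F) : Matrix (Fin N) (Fin N) F)ᵀ = _ * _
      rw [mul_inv_rev, Units.val_mul, Matrix.transpose_mul, map_mul]; rfl)
    rw [h]; group
  · rintro x ⟨-, hx⟩ i j hji
    refine mul_left_cancel₀ (M.hasPerm_antiUnit.ne_zero i) ?_
    rw [M.hasPerm_antiUnit.conj_apply, contra_apply]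
    rcases hji.eq_or_lt with rfl | h
    · rw [uni_diag (inv_mem hx), map_one, one_mul, Matrix.one_apply_eq, mul_one]
    · rw [Fin.revPerm_apply, Fin.revPerm_apply, uni_below (inv_mem hx) (Fin.rev_lt_rev.2 h), map_zero, zero_mul,
        Matrix.one_apply_ne h.ne', mul_zero]
  · rintro x ⟨-, hx⟩ i j hij
    refine mul_left_cancel₀ (M.hasPerm_antiUnit.ne_zero i) ?_
    rw [M.hasPerm_antiUnit.conj_apply, contra_apply, Fin.revPerm_apply, Fin.revPerm_apply,
      (inv_mem hx : x⁻¹ ∈ low N F) _ _ (Fin.rev_le_rev.2 hij)]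
    rcases eq_or_ne i j with rfl | hne
    · simp
    · rw [Matrix.one_apply_ne (fun e => hne (Fin.rev_injective e).symm), map_zero, zero_mul, Matrix.one_apply_ne hne, mul_zero]
  · rintro x ⟨-, hx⟩
    obtain ⟨w, hw⟩ := hx
    refine mul_mem (mul_mem (inv_mem ⟨_, M.hasPerm_antiUnit⟩) ⟨w, fun i j h => ?_⟩) ⟨_, M.hasPerm_antiUnit⟩
    rw [contra_apply, hw.inv j i (fun e => h (by rw [e]; simp)), map_zero]
  · intro g _
    have hphi : ∀ A : Matrix (Fin N) (Fin N) F, M.phi.mapMatrix (M.phi.mapMatrix A) = A := fun A => by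
      ext i j; exact M.invol _
    rw [M.mem_grp]
    constructor
    · intro h
      refine Units.ext ?_
      have h1 : (M.antiUnit : Matrix (Fin N) (Fin N) F) * (g : Matrix (Fin N) (Fin N) F) =
          (M.contra g : Matrix (Fin N) (Fin N) F) * (M.antiUnit : Matrix (Fin N) (Fin N) F) := by
        have h2 := congrArg M.phi.mapMatrix h
        rw [map_mul, map_mul, hphi] at h2
        show M.phi.mapMatrix M.mat * (g : Matrix (Fin N) (Fin N) F) = (M.contra g : Matrix (Fin N) (Fin N) F) * M.phi.mapMatrix M.mat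
        conv_rhs => rw [← h2, mul_assoc (M.phi.mapMatrix (g : Matrix (Fin N) (Fin N) F)ᵀ), ← mul_assoc]
        rw [show (M.contra g : Matrix (Fin N) (Fin N) F) * M.phi.mapMatrix (g : Matrix (Fin N) (Fin N) F)ᵀ = 1 from
          (M.contra g).mul_inv, one_mul]
      rw [Units.val_mul, Units.val_mul, mul_assoc, ← h1, ← mul_assoc, Units.inv_mul, one_mul]
    · intro h
      have h1 : M.contra g * M.antiUnit = M.antiUnit * g := by
        conv_rhs => rw [← h]
        group
      have h2 := congrArg Units.val h1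
      rw [Units.val_mul, Units.val_mul] at h2
      have h3 := congrArg M.phi.mapMatrix (show M.phi.mapMatrix (g : Matrix (Fin N) (Fin N) F)ᵀ *
          ((M.antiUnit : Matrix (Fin N) (Fin N) F) * (g : Matrix (Fin N) (Fin N) F)) = (M.antiUnit : Matrix (Fin N) (Fin N) F) by
        rw [← h2, ← mul_assoc, show M.phi.mapMatrix (g : Matrix (Fin N) (Fin N) F)ᵀ * (M.contra g : Matrix (Fin N) (Fin N) F) = 1 from
          (M.contra g).inv_mul, one_mul])
      rw [map_mul, map_mul, hphi, show (M.antiUnit : Matrix (Fin N) (Fin N) F) = M.phi.mapMatrix M.mat from rfl, hphi,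
        ← mul_assoc] at h3
      exact h3

theorem commRev_of_mem {n : GL (Fin N) F} {w : Equiv.Perm (Fin N)} (hn : n ∈ M.grp) (hw : HasPerm n w) : CommRev w := by
  intro k
  by_contra hne
  have h := M.mem_grp_iff.1 hn k (Fin.rev k)
  rw [if_pos rfl, Finset.sum_eq_single (w k) (fun b _ hb => by rw [hw b k hb, zero_mul, zero_mul]) (by simp),
    hw (Fin.rev (w k)) (Fin.rev k) (fun e => hne e.symm), map_zero, mul_zero] at h
  exact M.ne k h.symm

theorem exists_monomial {w : Equiv.Perm (Fin N)} (hw : CommRev w) :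
    ∃ n ∈ M.grp, HasPerm n w ∧ ∀ k, k.val ≤ (Fin.rev k).val → (n : Matrix (Fin N) (Fin N) F) (w k) k = 1 := by
  classical
  obtain ⟨d, hd⟩ : ∃ d : Fin N → F, d = fun k => if k.val ≤ (Fin.rev k).val then 1 else
      M.phi (M.eps (Fin.rev k) / M.eps (w (Fin.rev k))) := ⟨_, rfl⟩
  have hd0 : ∀ k, d k ≠ 0 := fun k => by
    rw [hd]; dsimp only
    split_ifs
    · exact one_ne_zero
    · exact (map_ne_zero M.phi).2 (div_ne_zero (M.ne _) (M.ne _))
  obtain ⟨n, hn⟩ : ∃ n : GL (Fin N) F, n = Flag.permGL w * Matrix.GeneralLinearGroup.mkOfDetNeZero (Matrix.diagonal d)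
      (by rw [Matrix.det_diagonal]; exact Finset.prod_ne_zero_iff.2 fun i _ => hd0 i) := ⟨_, rfl⟩
  have hval : ∀ i j, (n : Matrix (Fin N) (Fin N) F) i j = if i = w j then d j else 0 := fun i j => by
    rw [hn, Units.val_mul]
    show (((Flag.permGL w : GL (Fin N) F) : Matrix (Fin N) (Fin N) F) * Matrix.diagonal d) i j = _
    rw [Matrix.mul_diagonal, Flag.permGL_apply]
    by_cases h : i = w j <;> simp [h]
  refine ⟨n, M.mem_grp_iff.2 fun i j => ?_, fun i j h => by rw [hval, if_neg h], fun k hk => by rw [hval, if_pos rfl, hd]; exact if_pos hk⟩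
  rw [Finset.sum_eq_single (w i) (fun b _ hb => by rw [hval b i, if_neg hb, zero_mul, zero_mul]) (by simp),
    hval, hval, if_pos rfl]
  rcases eq_or_ne j (Fin.rev i) with rfl | hne
  swap
  · rw [if_neg hne, if_neg (fun e => hne (w.injective (by rw [hw, e]))), map_zero, mul_zero]
  rw [if_pos rfl, if_pos (hw i).symm, hd]
  dsimp only
  rw [Fin.rev_rev]
  by_cases h : i.val ≤ (Fin.rev i).val
  · rw [if_pos h, one_mul]
    by_cases h' : (Fin.rev i).val ≤ i.val
    · have he : Fin.rev i = i := Fin.ext (le_antisymm h' h)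
      have hwi : w i = i := by
        have h2 := hw i
        rw [he] at h2
        have := congrArg Fin.val h2
        have := congrArg Fin.val he
        simp only [Fin.val_rev] at *
        exact Fin.ext (by omega)
      rw [if_pos h', map_one, mul_one, hwi]
    · rw [if_neg h', M.invol, mul_div_cancel₀ _ (M.ne _)]
  · rw [if_neg h, if_pos (by omega), map_one, mul_one]
    have e1 := M.sym (Fin.rev i)
    rw [Fin.rev_rev] at e1
    have e2 := M.sym (w (Fin.rev i))
    rw [hw i, Fin.rev_rev] at e2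
    rw [map_div₀, e2, e1, hw i]
    have := (map_ne_zero M.phi).2 (M.ne (Fin.rev (w i)))
    field_simp

end AForm

end Cfsg.Agent.Lib.ClassicalBN
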