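import Mathlib
import Cfsg.Agent.Lib.ClassicalBN.AntiForm

/-!
The double coset axiom for the standard generators, and the frame of a full isometry group.
-/

set_option autoImplicit false

namespace Cfsg.Agent.Lib.ClassicalBN

open Equiv

variable {F : Type*} [Field F] [Finite F] {N : ℕ}

theorem conj_uni_of {n u : GL (Fin N) F} {w : Perm (Fin N)} (hw : HasPerm n w) (hu : u ∈ uni N F)
    (h : ∀ i j, i < j → (u : Matrix (Fin N) (Fin N) F) i j ≠ 0 → w⁻¹ i < w⁻¹ j) : n⁻¹ * u * n ∈ uni N F := by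
  intro a b hba
  refine mul_left_cancel₀ (hw.ne_zero a) ?_
  rw [hw.conj_apply]
  rcases eq_or_ne a b with rfl | hne
  · rw [uni_diag hu, Matrix.one_apply_eq, one_mul, mul_one]
  rw [Matrix.one_apply_ne hne, mul_zero]
  refine mul_eq_zero_of_left ?_ _
  by_contra hnz
  rcases lt_trichotomy (w a) (w b) with hlt | he | hlt
  · have := h _ _ hlt hnz
    simp only [Perm.inv_def, Equiv.symm_apply_apply] at this
    exact absurd hba this.not_ge
  · exact hne (w.injective he)
  · exact hnz (uni_below hu hlt)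

theorem conj_low_of {n u : GL (Fin N) F} {w : Perm (Fin N)} (hw : HasPerm n w) (hu : u ∈ uni N F)
    (h : ∀ i j, i < j → (u : Matrix (Fin N) (Fin N) F) i j ≠ 0 → w⁻¹ j < w⁻¹ i) : n⁻¹ * u * n ∈ low N F := by
  intro a b hab
  refine mul_left_cancel₀ (hw.ne_zero a) ?_
  rw [hw.conj_apply]
  rcases eq_or_ne a b with rfl | hne
  · rw [uni_diag hu, Matrix.one_apply_eq, one_mul, mul_one]
  rw [Matrix.one_apply_ne hne, mul_zero]
  refine mul_eq_zero_of_left ?_ _
  by_contra hnz
  rcases lt_trichotomy (w a) (w b) with hlt | he | hlt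
  · have := h _ _ hlt hnz
    simp only [Perm.inv_def, Equiv.symm_apply_apply] at this
    exact absurd hab this.not_ge
  · exact hne (w.injective he)
  · exact hnz (uni_below hu hlt)

theorem CommRev.inv_apply {w : Perm (Fin N)} (hw : CommRev w) (i : Fin N) : w⁻¹ (Fin.rev i) = Fin.rev (w⁻¹ i) := by
  apply w.injective
  rw [hw]
  simp

theorem step_pair {G : Subgroup (GL (Fin N) F)} (hG : NForm G) (hcomm : ∀ n ∈ G, ∀ w, HasPerm n w → CommRev w)
    {m : ℕ} (hm : 2 * m ≤ N) {i j : Fin N} (hij : i.val + 1 = j.val) (hj : j.val < m)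
    {s : GL (Fin N) F} (hs : s ∈ G ⊓ mono N F) (hsp : HasPerm s (pairSwap i j)) : Step G s := by
  have ha := apart_of_lt hm (show i.val < j.val by omega) hj
  have hri : pairSwap i j (Fin.rev i) = Fin.rev j := by rw [commRev_pairSwap ha i, pairSwap_apply_left ha]
  have hrj : pairSwap i j (Fin.rev j) = Fin.rev i := by rw [commRev_pairSwap ha j, pairSwap_apply_right ha]
  have vi := Fin.val_rev i
  have vj := Fin.val_rev j
  obtain ⟨lab, hlab⟩ : ∃ lab : Fin N → ℕ, lab = fun x => if x = j then i.val else if x = Fin.rev i then (Fin.rev j).val else x.val :=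
    ⟨_, rfl⟩
  have hsplit : ∀ x : Fin N, x = i ∨ x = j ∨ x = Fin.rev i ∨ x = Fin.rev j ∨
      (x.val ≠ i.val ∧ x.val ≠ j.val ∧ x.val ≠ (Fin.rev i).val ∧ x.val ≠ (Fin.rev j).val) := fun x => by
    simp only [Fin.ext_iff]; omega
  have li : lab i = i.val := by
    rw [hlab]; dsimp only; rw [if_neg ha.ne, if_neg ha.fi.symm]
  have lj : lab j = i.val := by
    rw [hlab]; dsimp only; rw [if_pos rfl]
  have lri : lab (Fin.rev i) = (Fin.rev j).val := by
    rw [hlab]; dsimp only; rw [if_neg ha.rev_ne, if_pos rfl]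
  have lrj : lab (Fin.rev j) = (Fin.rev j).val := by
    rw [hlab]; dsimp only
    rw [if_neg ha.fj, if_neg (fun e => ha.ne (Fin.rev_injective e).symm)]
  have lo : ∀ x : Fin N, x.val ≠ i.val → x.val ≠ j.val → x.val ≠ (Fin.rev i).val → x.val ≠ (Fin.rev j).val → lab x = x.val :=
    fun x _ h2 h3 _ => by
      rw [hlab]; dsimp only; rw [if_neg (fun e => h2 (congrArg Fin.val e)), if_neg (fun e => h3 (congrArg Fin.val e))]
  have hlabeq : ∀ x y : Fin N, x < y → lab x = lab y → (x = i ∧ y = j) ∨ (x = Fin.rev j ∧ y = Fin.rev i) := by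
    intro x y hxy h
    have hx := hsplit x
    have hy := hsplit y
    rcases hx with rfl | rfl | rfl | rfl | ⟨a1, a2, a3, a4⟩ <;> rcases hy with rfl | rfl | rfl | rfl | ⟨b1, b2, b3, b4⟩ <;>
      (try simp only [li, lj, lri, lrj] at h) <;> (try rw [lo x a1 a2 a3 a4] at h) <;> (try rw [lo y b1 b2 b3 b4] at h) <;>
      first | exact .inl ⟨rfl, rfl⟩ | exact .inr ⟨rfl, rfl⟩ | (exfalso; have := Fin.lt_def.1 hxy; omega)
  refine step_of_block hG hs hsp ?_ ?_ (lab := lab) ?_ ?_ ?_ ?_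
  · rw [pairSwap]
    have hc : swap i j * swap (Fin.rev i) (Fin.rev j) = swap (Fin.rev i) (Fin.rev j) * swap i j :=
      (Perm.disjoint_iff_eq_or_eq.2 fun x => by
        by_cases h : x = i ∨ x = j
        · exact .inr (swap_apply_of_ne_of_ne (by rcases h with rfl | rfl <;> [exact ha.fi.symm; exact ha.rev_ne.symm])
            (by rcases h with rfl | rfl <;> [exact ha.ne_rev; exact ha.fj.symm]))
        · exact .inl (swap_apply_of_ne_of_ne (fun e => h (.inl e)) (fun e => h (.inr e)))).commute.eq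
    calc _ = swap i j * (swap (Fin.rev i) (Fin.rev j) * swap i j) * swap (Fin.rev i) (Fin.rev j) := by group
      _ = 1 := by rw [← hc, ← mul_assoc, swap_mul_self, one_mul, swap_mul_self]
  · intro h
    have := pairSwap_apply_left ha
    rw [h] at this
    exact ha.ne this
  · intro x y hxy
    rcases eq_or_lt_of_le hxy with rfl | hlt
    · exact le_rfl
    have hx := hsplit x
    have hy := hsplit y
    have := Fin.lt_def.1 hlt
    rcases hx with rfl | rfl | rfl | rfl | ⟨a1, a2, a3, a4⟩ <;> rcases hy with rfl | rfl | rfl | rfl | ⟨b1, b2, b3, b4⟩ <;>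
      (try simp only [li, lj, lri, lrj]) <;> (try rw [lo x a1 a2 a3 a4]) <;> (try rw [lo y b1 b2 b3 b4]) <;> omega
  · intro x
    rcases hsplit x with rfl | rfl | rfl | rfl | ⟨a1, a2, a3, a4⟩
    · rw [pairSwap_apply_left ha, li, lj]
    · rw [pairSwap_apply_right ha, li, lj]
    · rw [hri, lri, lrj]
    · rw [hrj, lri, lrj]
    · rw [pairSwap_apply_other (fun e => a1 (congrArg Fin.val e)) (fun e => a2 (congrArg Fin.val e))
        (fun e => a3 (congrArg Fin.val e)) (fun e => a4 (congrArg Fin.val e))]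
  · intro n hn w hw hblk
    have hc := hcomm n hn.1 w hw
    have hfix : ∀ x, x ≠ i → x ≠ j → x ≠ Fin.rev i → x ≠ Fin.rev j → w x = x := fun x h1 h2 h3 h4 => by
      by_contra hne
      rcases lt_or_gt_of_ne hne with hlt | hlt
      · rcases hlabeq _ _ hlt (hblk x) with ⟨-, e⟩ | ⟨-, e⟩
        exacts [h2 e, h3 e]
      · rcases hlabeq _ _ hlt (hblk x).symm with ⟨e, -⟩ | ⟨e, -⟩
        exacts [h1 e, h4 e]
    have hwi : w i = i ∨ w i = j := by
      by_contra! h
      rcases lt_or_gt_of_ne h.1 with hlt | hlt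
      · rcases hlabeq _ _ hlt (hblk i) with ⟨-, e⟩ | ⟨-, e⟩
        exacts [ha.ne e, ha.fi e.symm]
      · rcases hlabeq _ _ hlt (hblk i).symm with ⟨-, e⟩ | ⟨e, -⟩
        exacts [h.2 e, ha.ne_rev e]
    have hwj : w j = i ∨ w j = j := by
      by_contra! h
      rcases lt_or_gt_of_ne h.2 with hlt | hlt
      · rcases hlabeq _ _ hlt (hblk j) with ⟨e, -⟩ | ⟨-, e⟩
        exacts [h.1 e, ha.rev_ne e.symm]
      · rcases hlabeq _ _ hlt (hblk j).symm with ⟨e, -⟩ | ⟨e, -⟩
        exacts [ha.ne e.symm, ha.fj e.symm]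
    rcases hwi with e | e
    · refine .inl (Equiv.ext fun x => ?_)
      have ej : w j = j := hwj.resolve_left fun e' => ha.ne (w.injective (e.trans e'.symm))
      rw [Perm.coe_one, id_eq]
      by_cases h1 : x = i
      · rw [h1, e]
      by_cases h2 : x = j
      · rw [h2, ej]
      by_cases h3 : x = Fin.rev i
      · rw [h3, hc, e]
      by_cases h4 : x = Fin.rev j
      · rw [h4, hc, ej]
      exact hfix x h1 h2 h3 h4
    · refine .inr (Equiv.ext fun x => ?_)
      have ej : w j = i := hwj.resolve_right fun e' => ha.ne (w.injective (e.trans e'.symm))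
      by_cases h1 : x = i
      · rw [h1, e, pairSwap_apply_left ha]
      by_cases h2 : x = j
      · rw [h2, ej, pairSwap_apply_right ha]
      by_cases h3 : x = Fin.rev i
      · rw [h3, hc, e, hri]
      by_cases h4 : x = Fin.rev j
      · rw [h4, hc, ej, hrj]
      rw [hfix x h1 h2 h3 h4, pairSwap_apply_other h1 h2 h3 h4]
  · intro n hn
    obtain ⟨w, hw⟩ := hn.2
    have hc := hcomm n hn.1 w hw
    have key : ∀ u : GL (Fin N) F, InL lab u → ∀ x y : Fin N, x < y → (u : Matrix (Fin N) (Fin N) F) x y ≠ 0 →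
        (x = i ∧ y = j) ∨ (x = Fin.rev j ∧ y = Fin.rev i) := fun u hu x y hxy hnz =>
      hlabeq x y hxy (by by_contra h; exact hnz (hu x y h))
    rcases lt_or_gt_of_ne ((w⁻¹).injective.ne ha.ne) with h | h
    · refine .inl fun u hu huL => conj_uni_of hw hu.2 fun x y hxy hnz => ?_
      rcases key u huL x y hxy hnz with ⟨rfl, rfl⟩ | ⟨rfl, rfl⟩
      · exact h
      · rw [hc.inv_apply, hc.inv_apply]; exact Fin.rev_lt_rev.2 h
    · refine .inr fun u hu huL => conj_low_of hw hu.2 fun x y hxy hnz => ?_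
      rcases key u huL x y hxy hnz with ⟨rfl, rfl⟩ | ⟨rfl, rfl⟩
      · exact h
      · rw [hc.inv_apply, hc.inv_apply]; exact Fin.rev_lt_rev.2 h

theorem step_mid {G : Subgroup (GL (Fin N) F)} (hG : NForm G) (hcomm : ∀ n ∈ G, ∀ w, HasPerm n w → CommRev w)
    {m : ℕ} (hm : 2 * m ≤ N) (hN : N ≤ 2 * m + 1) {l : Fin N} (hl : l.val + 1 = m)
    {s : GL (Fin N) F} (hs : s ∈ G ⊓ mono N F) (hsp : HasPerm s (flipPair l)) : Step G s := by
  have vl := Fin.val_rev l
  have hne : Fin.rev l ≠ l := fun e => by have := congrArg Fin.val e; omega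
  obtain ⟨lab, hlab⟩ : ∃ lab : Fin N → ℕ, lab = fun x => if l.val ≤ x.val ∧ x.val ≤ (Fin.rev l).val then l.val else x.val := ⟨_, rfl⟩
  have hin : ∀ x y : Fin N, x < y → lab x = lab y → l.val ≤ x.val ∧ y.val ≤ (Fin.rev l).val := fun x y hxy h => by
    rw [hlab] at h; dsimp only at h
    have := Fin.lt_def.1 hxy
    split_ifs at h <;> omega
  have hmid : ∀ x : Fin N, l.val ≤ x.val → x.val ≤ (Fin.rev l).val → x = l ∨ x = Fin.rev l ∨ Fin.rev x = x := fun x h1 h2 => by
    have := Fin.val_rev x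
    simp only [Fin.ext_iff]; omega
  have hfl : ∀ x, x ≠ l → x ≠ Fin.rev l → flipPair l x = x := fun x h1 h2 => swap_apply_of_ne_of_ne h1 h2
  have hcfix : ∀ w : Perm (Fin N), CommRev w → ∀ x, Fin.rev x = x → w x = x := fun w hw x hx => by
    have h := hw x
    rw [hx] at h
    have e1 := congrArg Fin.val hx
    have e2 := congrArg Fin.val h
    simp only [Fin.val_rev] at e1 e2
    exact Fin.ext (by omega)
  refine step_of_block hG hs hsp (swap_mul_self _ _) ?_ (lab := lab) ?_ ?_ ?_ ?_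
  · intro h
    have h2 := congrArg (fun g : Perm (Fin N) => g l) h
    simp [flipPair] at h2
    exact hne h2
  · intro x y hxy
    rw [hlab]; dsimp only
    have := Fin.le_def.1 hxy
    split_ifs <;> omega
  · intro x
    rw [hlab]; dsimp only
    rcases eq_or_ne x l with rfl | h1
    · rw [flipPair, swap_apply_left]; split_ifs <;> omega
    rcases eq_or_ne x (Fin.rev l) with rfl | h2
    · rw [flipPair, swap_apply_right]; split_ifs <;> omega
    rw [hfl x h1 h2]
  · intro n hn w hw hblk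
    have hc := hcomm n hn.1 w hw
    have hfix : ∀ x, x ≠ l → x ≠ Fin.rev l → w x = x := fun x h1 h2 => by
      by_cases hb : l.val ≤ x.val ∧ x.val ≤ (Fin.rev l).val
      · rcases hmid x hb.1 hb.2 with e | e | e
        exacts [absurd e h1, absurd e h2, hcfix w hc x e]
      · by_contra hne'
        rcases lt_or_gt_of_ne hne' with hlt | hlt
        · have := hin _ _ hlt (hblk x); have := Fin.lt_def.1 hlt; omega
        · have := hin _ _ hlt (hblk x).symm; have := Fin.lt_def.1 hlt; omega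
    have hwl : w l = l ∨ w l = Fin.rev l := by
      by_contra! h
      exact h.1 (w.injective (hfix _ h.1 h.2))
    rcases hwl with e | e
    · refine .inl (Equiv.ext fun x => ?_)
      rw [Perm.coe_one, id_eq]
      by_cases h1 : x = l
      · rw [h1, e]
      by_cases h2 : x = Fin.rev l
      · rw [h2, hc, e]
      exact hfix x h1 h2
    · refine .inr (Equiv.ext fun x => ?_)
      by_cases h1 : x = l
      · rw [h1, e, flipPair, swap_apply_left]
      by_cases h2 : x = Fin.rev l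
      · rw [h2, hc, e, flipPair, swap_apply_right, Fin.rev_rev]
      rw [hfix x h1 h2, hfl x h1 h2]
  · intro n hn
    obtain ⟨w, hw⟩ := hn.2
    have hc := hcomm n hn.1 w hw
    have hinv : CommRev w⁻¹ := fun x => hc.inv_apply x
    have key : ∀ u : GL (Fin N) F, InL lab u → ∀ x y : Fin N, x < y → (u : Matrix (Fin N) (Fin N) F) x y ≠ 0 →
        (x = l ∧ y = Fin.rev l) ∨ (x = l ∧ Fin.rev y = y) ∨ (Fin.rev x = x ∧ y = Fin.rev l) := fun u hu x y hxy hnz => by
      obtain ⟨h1, h2⟩ := hin x y hxy (by by_contra h; exact hnz (hu x y h))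
      have := Fin.lt_def.1 hxy
      have := Fin.val_rev x
      have := Fin.val_rev y
      simp only [Fin.ext_iff]; omega
    rcases lt_or_gt_of_ne ((w⁻¹).injective.ne hne.symm) with h | h
    · refine .inl fun u hu huL => conj_uni_of hw hu.2 fun x y hxy hnz => ?_
      have h' := h
      rw [hc.inv_apply] at h'
      rw [Fin.lt_def, Fin.val_rev] at h'
      have hlt := Fin.lt_def.1 h
      rcases key u huL x y hxy hnz with ⟨rfl, rfl⟩ | ⟨rfl, e⟩ | ⟨e, rfl⟩
      · exact h
      · have e1 := congrArg Fin.val e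
        rw [hcfix _ hinv y e, Fin.lt_def]
        simp only [Fin.val_rev] at e1
        omega
      · have e1 := congrArg Fin.val e
        rw [hcfix _ hinv x e, hc.inv_apply, Fin.lt_def, Fin.val_rev]
        simp only [Fin.val_rev] at e1
        omega
    · refine .inr fun u hu huL => conj_low_of hw hu.2 fun x y hxy hnz => ?_
      have h' := h
      rw [hc.inv_apply] at h'
      rw [Fin.lt_def, Fin.val_rev] at h'
      rcases key u huL x y hxy hnz with ⟨rfl, rfl⟩ | ⟨rfl, e⟩ | ⟨e, rfl⟩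
      · exact h
      · have e1 := congrArg Fin.val e
        rw [hcfix _ hinv y e, Fin.lt_def]
        simp only [Fin.val_rev] at e1
        omega
      · have e1 := congrArg Fin.val e
        rw [hcfix _ hinv x e, hc.inv_apply, Fin.lt_def, Fin.val_rev]
        simp only [Fin.val_rev] at e1
        omega

theorem exists_lift {S : Set (GL (Fin N) F)} {T : Set (Perm (Fin N))} (hT : ∀ σ ∈ T, ∃ s ∈ S, HasPerm s σ)
    {w : Perm (Fin N)} (hw : w ∈ Subgroup.closure T) : ∃ k ∈ Subgroup.closure S, HasPerm k w := by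
  induction hw using Subgroup.closure_induction with
  | mem σ hσ => obtain ⟨s, hs, h⟩ := hT σ hσ; exact ⟨s, Subgroup.subset_closure hs, h⟩
  | one => exact ⟨1, one_mem _, hasPerm_one⟩
  | mul a b _ _ iha ihb =>
    obtain ⟨k, hk, h⟩ := iha
    obtain ⟨k', hk', h'⟩ := ihb
    exact ⟨k * k', mul_mem hk hk', h.mul h'⟩
  | inv a _ iha =>
    obtain ⟨k, hk, h⟩ := iha
    exact ⟨k⁻¹, inv_mem hk, h.inv⟩

theorem ne_of_root {G : Subgroup (GL (Fin N) F)} {s u : GL (Fin N) F} {σ : Perm (Fin N)} (hs : HasPerm s σ)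
    (hσ : σ * σ = 1) {i j : Fin N} (hnz : (u : Matrix (Fin N) (Fin N) F) i j ≠ 0) (hji : σ j < σ i) :
    s⁻¹ * u * s ∉ BB G := by
  intro h
  have h1 := hs.conj_apply u (σ i) (σ j)
  rw [BB_upper h hji, mul_zero, show σ (σ i) = i by rw [← Perm.mul_apply, hσ]; rfl,
    show σ (σ j) = j by rw [← Perm.mul_apply, hσ]; rfl] at h1
  have hnz' := hs.ne_zero (σ j)
  rw [show σ (σ j) = j by rw [← Perm.mul_apply, hσ]; rfl] at hnz'
  exact mul_ne_zero hnz hnz' h1.symm

theorem pairSwap_sq {i j : Fin N} (ha : Apart i j) : pairSwap i j * pairSwap i j = 1 := Equiv.ext fun x => by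
  rw [Perm.mul_apply, Perm.coe_one, id_eq]
  by_cases h1 : x = i
  · rw [h1, pairSwap_apply_left ha, pairSwap_apply_right ha]
  by_cases h2 : x = j
  · rw [h2, pairSwap_apply_right ha, pairSwap_apply_left ha]
  by_cases h3 : x = Fin.rev i
  · rw [h3, commRev_pairSwap ha i, pairSwap_apply_left ha, commRev_pairSwap ha j, pairSwap_apply_right ha]
  by_cases h4 : x = Fin.rev j
  · rw [h4, commRev_pairSwap ha j, pairSwap_apply_right ha, commRev_pairSwap ha i, pairSwap_apply_left ha]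
  rw [pairSwap_apply_other h1 h2 h3 h4, pairSwap_apply_other h1 h2 h3 h4]

theorem gens_data {m : ℕ} (hm : 2 * m ≤ N) {σ : Perm (Fin N)} (h : σ ∈ gens N m) : σ * σ = 1 ∧ CommRev σ := by
  rcases h with ⟨i, j, hij, hj, rfl⟩ | ⟨i, -, rfl⟩
  · have ha := apart_of_lt hm (show i.val < j.val by omega) hj
    exact ⟨pairSwap_sq ha, commRev_pairSwap ha⟩
  · exact ⟨swap_mul_self _ _, commRev_flipPair i⟩

/-- The frame of a full isometry group, remembering the permutations of its generators. -/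
theorem exists_frame' {G : Subgroup (GL (Fin N) F)} (hG : NForm G) (hcomm : ∀ n ∈ G, ∀ w, HasPerm n w → CommRev w)
    {m : ℕ} (hm : 2 * m ≤ N) (hN : N ≤ 2 * m + 1) (hrep : ∀ w, CommRev w → ∃ n ∈ G, HasPerm n w)
    (hroot : ∀ σ ∈ gens N m, ∃ u ∈ G ⊓ uni N F, ∃ i j, (u : Matrix (Fin N) (Fin N) F) i j ≠ 0 ∧ σ j < σ i) :
    ∃ (S : Set (GL (Fin N) F)), Frame G (G ⊓ mono N F) S ∧ ∀ s ∈ S, ∃ σ ∈ gens N m, HasPerm s σ := by
  classical
  have hex : ∀ σ : gens N m, ∃ s ∈ G, HasPerm s σ.1 := fun σ => hrep _ (gens_data hm σ.2).2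
  choose rep hrepG hrepP using hex
  have hrevrev : CommRev (Fin.revPerm : Perm (Fin N)) := fun _ => rfl
  refine ⟨Set.range rep, ⟨le_rfl, fun t ht => ⟨ht.1, dia_le_mono ht.2⟩, ?_, ?_, ?_, ?_, ?_, ?_, ?_⟩,
    by rintro _ ⟨σ, rfl⟩; exact ⟨σ.1, σ.2, hrepP σ⟩⟩
  · rintro _ ⟨σ, rfl⟩
    exact ⟨hrepG σ, ⟨_, hrepP σ⟩⟩
  · intro n hn
    obtain ⟨w, hw⟩ := hn.2
    have hc := hcomm n hn.1 w hw
    have hwmem := mem_closure_gens hm w hc fun i hi => by
      simp only [Outer, not_or, not_lt, Fin.val_rev] at hi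
      have h1 : Fin.rev i = i := Fin.ext (by rw [Fin.val_rev]; omega)
      have h2 := hc i
      rw [h1] at h2
      have e2 := congrArg Fin.val h2
      simp only [Fin.val_rev] at e2
      exact Fin.ext (by omega)
    obtain ⟨k, hk, hkw⟩ := exists_lift (S := Set.range rep) (fun σ hσ => ⟨_, ⟨⟨σ, hσ⟩, rfl⟩, hrepP _⟩) hwmem
    refine ⟨k, hk, ?_⟩
    have := hkw.inv.mul hw
    rw [inv_mul_cancel] at this
    exact this
  · rintro _ ⟨σ, rfl⟩
    have := (hrepP σ).mul (hrepP σ)
    rw [(gens_data hm σ.2).1] at this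
    exact this
  · rintro _ ⟨σ, rfl⟩ _ ⟨τ, rfl⟩ h
    have h1 := ((hrepP σ).inv.mul (hrepP τ)).unique h
    rw [show σ = τ from Subtype.ext (inv_mul_eq_one.1 h1)]
  · rintro _ ⟨σ, rfl⟩
    have hmem : rep σ ∈ G ⊓ mono N F := ⟨hrepG σ, ⟨_, hrepP σ⟩⟩
    have hp := hrepP σ
    rcases σ.2 with ⟨i, j, hij, hj, e⟩ | ⟨l, hl, e⟩ <;> rw [e] at hp
    · exact step_pair hG hcomm hm hij hj hmem hp
    · exact step_mid hG hcomm hm hN hl hmem hp
  · rintro _ ⟨σ, rfl⟩
    obtain ⟨u, hu, i, j, hnz, hji⟩ := hroot _ σ.2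
    exact ⟨u, hu, ne_of_root (hrepP σ) (gens_data hm σ.2).1 hnz hji⟩
  · obtain ⟨n, hn, hnw⟩ := hrep _ hrevrev
    exact ⟨n, ⟨hn, ⟨_, hnw⟩⟩, fun u hu h => by
      have hl := eq_one_of_low_BB (conj_low_of hnw hu.2 fun a b hab _ => by
        rw [show (Fin.revPerm : Perm (Fin N))⁻¹ = Fin.revPerm from rfl]
        exact Fin.rev_lt_rev.2 hab) h
      calc u = n * (n⁻¹ * u * n) * n⁻¹ := by group
        _ = 1 := by rw [hl]; group⟩

theorem exists_frame {G : Subgroup (GL (Fin N) F)} (hG : NForm G) (hcomm : ∀ n ∈ G, ∀ w, HasPerm n w → CommRev w)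
    {m : ℕ} (hm : 2 * m ≤ N) (hN : N ≤ 2 * m + 1) (hrep : ∀ w, CommRev w → ∃ n ∈ G, HasPerm n w)
    (hroot : ∀ σ ∈ gens N m, ∃ u ∈ G ⊓ uni N F, ∃ i j, (u : Matrix (Fin N) (Fin N) F) i j ≠ 0 ∧ σ j < σ i) :
    ∃ (S : Set (GL (Fin N) F)), Frame G (G ⊓ mono N F) S :=
  let ⟨S, h, _⟩ := exists_frame' hG hcomm hm hN hrep hroot
  ⟨S, h⟩

end Cfsg.Agent.Lib.ClassicalBN
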