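import Mathlib
import Cfsg.Agent.Lib.ClassicalBN.Steps

/-!
Root elements of the anti-diagonal forms, and the Steinberg character of a group of isometries.
-/

set_option autoImplicit false

namespace Cfsg.Agent.Lib.ClassicalBN

open Equiv
open scoped Matrix

variable {F : Type*} [Field F] [Finite F] {N : ℕ}

namespace AForm

variable (M : AForm F N)

omit [Finite F] in
theorem single_mul_mat (a b : Fin N) (c : F) : Matrix.single a b c * M.mat = Matrix.single a (Fin.rev b) (c * M.eps b) := by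
  ext i j
  rw [M.mul_mat_apply, Matrix.single_apply, Matrix.single_apply]
  by_cases h : a = i ∧ b = Fin.rev j
  · obtain ⟨rfl, rfl⟩ := h
    rw [if_pos ⟨rfl, rfl⟩, if_pos ⟨rfl, by rw [Fin.rev_rev]⟩]
  · rw [if_neg h, if_neg (fun h' => h ⟨h'.1, by rw [← h'.2, Fin.rev_rev]⟩), zero_mul]

omit [Finite F] in
theorem mat_mul_single (a b : Fin N) (c : F) : M.mat * Matrix.single a b c = Matrix.single (Fin.rev a) b (M.eps (Fin.rev a) * c) := by
  ext i j
  rw [M.mat_mul_apply, Matrix.single_apply, Matrix.single_apply]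
  by_cases h : a = Fin.rev i ∧ b = j
  · obtain ⟨rfl, rfl⟩ := h
    rw [if_pos ⟨rfl, rfl⟩, if_pos ⟨by rw [Fin.rev_rev], rfl⟩, Fin.rev_rev]
  · rw [if_neg h, if_neg (fun h' => h ⟨by rw [← h'.1, Fin.rev_rev], h'.2⟩), mul_zero]

omit [Finite F] in
theorem phi_single (a b : Fin N) (c : F) : M.phi.mapMatrix (Matrix.single a b c) = Matrix.single a b (M.phi c) := by
  rw [RingHom.mapMatrix_apply, Matrix.map_single _ _ _ M.phi]

theorem exists_elem (A : Matrix (Fin N) (Fin N) F) (hA : ∀ i j, j ≤ i → A i j = 0)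
    (h : Aᵀ * M.mat + M.mat * M.phi.mapMatrix A + Aᵀ * M.mat * M.phi.mapMatrix A = 0) :
    ∃ u ∈ M.grp ⊓ uni N F, ∀ i j, i ≠ j → (u : Matrix (Fin N) (Fin N) F) i j = A i j := by
  have hdet : (1 + A).det = 1 := by
    rw [Matrix.det_of_upperTriangular (fun i j (hji : j < i) => by
      rw [Matrix.add_apply, hA i j hji.le, Matrix.one_apply_ne hji.ne', add_zero])]
    exact Finset.prod_eq_one fun i _ => by rw [Matrix.add_apply, hA i i le_rfl, Matrix.one_apply_eq, add_zero]
  refine ⟨Matrix.GeneralLinearGroup.mkOfDetNeZero (1 + A) (by rw [hdet]; exact one_ne_zero), ⟨?_, fun i j hji => ?_⟩,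
    fun i j hij => ?_⟩
  · refine M.mem_grp.2 ?_
    show (1 + A)ᵀ * M.mat * M.phi.mapMatrix (1 + A) = M.mat
    rw [Matrix.transpose_add, Matrix.transpose_one, map_add, map_one]
    calc (1 + Aᵀ) * M.mat * (1 + M.phi.mapMatrix A) =
        M.mat + (Aᵀ * M.mat + M.mat * M.phi.mapMatrix A + Aᵀ * M.mat * M.phi.mapMatrix A) := by noncomm_ring
      _ = M.mat := by rw [h, add_zero]
  · show (1 + A) i j = _
    rw [Matrix.add_apply, hA i j hji, add_zero]
  · show (1 + A) i j = _
    rw [Matrix.add_apply, Matrix.one_apply_ne hij, zero_add]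

theorem root_pair {m : ℕ} (hm : 2 * m ≤ N) {i j : Fin N} (hij : i.val + 1 = j.val) (hj : j.val < m) :
    ∃ u ∈ M.grp ⊓ uni N F, ∃ a b, (u : Matrix (Fin N) (Fin N) F) a b ≠ 0 ∧ pairSwap i j b < pairSwap i j a := by
  have ha := apart_of_lt hm (show i.val < j.val by omega) hj
  obtain ⟨e, he⟩ : ∃ e, e = M.phi (-M.eps i / M.eps j) := ⟨_, rfl⟩
  have hlt : i < j := Fin.lt_def.2 (by omega)
  obtain ⟨u, hu, hval⟩ := M.exists_elem (Matrix.single i j 1 + Matrix.single (Fin.rev j) (Fin.rev i) e) (fun a b hba => by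
      rw [Matrix.add_apply, Matrix.single_apply, Matrix.single_apply, if_neg, if_neg, add_zero]
      · rintro ⟨rfl, rfl⟩; exact (Fin.rev_lt_rev.2 hlt).not_ge hba
      · rintro ⟨rfl, rfl⟩; exact hlt.not_ge hba) (by
    rw [Matrix.transpose_add, Matrix.transpose_single, Matrix.transpose_single, map_add, phi_single, phi_single, map_one,
      add_mul, single_mul_mat, single_mul_mat, mul_add, mat_mul_single, mat_mul_single, Fin.rev_rev, one_mul, mul_one,
      add_mul, mul_add, mul_add, Matrix.single_mul_single_of_ne _ _ _ _ ha.fi, Matrix.single_mul_single_of_ne _ _ _ _ (fun h => ha.ne (Fin.rev_injective h)),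
      Matrix.single_mul_single_of_ne _ _ _ _ ha.ne.symm, Matrix.single_mul_single_of_ne _ _ _ _ ha.fj.symm]
    have h1 : M.eps i + M.eps j * M.phi e = 0 := by rw [he, M.invol, mul_div_cancel₀ _ (M.ne j)]; ring
    have h2 : e * M.eps (Fin.rev j) + M.eps (Fin.rev i) = 0 := by
      rw [M.sym i, M.sym j, he, map_div₀, map_neg]
      field_simp [(map_ne_zero M.phi).2 (M.ne j)]
      ring
    simp only [add_zero]
    calc _ = Matrix.single j (Fin.rev i) (M.eps i + M.eps j * M.phi e) +
          Matrix.single (Fin.rev i) j (e * M.eps (Fin.rev j) + M.eps (Fin.rev i)) := by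
            rw [Matrix.single_add, Matrix.single_add]; abel
      _ = 0 := by rw [h1, h2, Matrix.single_zero, Matrix.single_zero, add_zero])
  refine ⟨u, hu, i, j, ?_, ?_⟩
  · rw [hval i j ha.ne, Matrix.add_apply, Matrix.single_apply, Matrix.single_apply, if_pos ⟨rfl, rfl⟩,
      if_neg (fun h => ha.rev_ne.symm h.2.symm), add_zero]
    exact one_ne_zero
  · rw [pairSwap_apply_left ha, pairSwap_apply_right ha]; exact hlt

theorem root_mid_even {l : Fin N} (hlt : l < Fin.rev l) {c : F} (hc : c ≠ 0) (h : c * M.eps l + M.eps (Fin.rev l) * M.phi c = 0) :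
    ∃ u ∈ M.grp ⊓ uni N F, ∃ a b, (u : Matrix (Fin N) (Fin N) F) a b ≠ 0 ∧ flipPair l b < flipPair l a := by
  obtain ⟨u, hu, hval⟩ := M.exists_elem (Matrix.single l (Fin.rev l) c) (fun a b hba => by
      rw [Matrix.single_apply, if_neg]
      rintro ⟨rfl, rfl⟩; exact hlt.not_ge hba) (by
    rw [Matrix.transpose_single, phi_single, single_mul_mat, mat_mul_single,
      Matrix.single_mul_single_of_ne _ _ _ _ hlt.ne', add_zero, ← Matrix.single_add, h, Matrix.single_zero])
  refine ⟨u, hu, l, Fin.rev l, ?_, ?_⟩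
  · rw [hval _ _ hlt.ne, Matrix.single_apply_same]; exact hc
  · rw [flipPair, swap_apply_left, swap_apply_right]; exact hlt

theorem root_mid_odd {l k : Fin N} (hlk : l < k) (hk : Fin.rev k = k) {x y z : F} (hy : y ≠ 0)
    (h1 : x * M.eps l + M.eps k * M.phi y = 0) (h2 : y * M.eps k + M.eps (Fin.rev l) * M.phi x = 0)
    (h3 : z * M.eps l + M.eps (Fin.rev l) * M.phi z + y * M.eps k * M.phi y = 0) :
    ∃ u ∈ M.grp ⊓ uni N F, ∃ a b, (u : Matrix (Fin N) (Fin N) F) a b ≠ 0 ∧ flipPair l b < flipPair l a := by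
  have hkl : k < Fin.rev l := by rw [← hk]; exact Fin.rev_lt_rev.2 hlk
  obtain ⟨u, hu, hval⟩ := M.exists_elem (Matrix.single l k x + Matrix.single k (Fin.rev l) y + Matrix.single l (Fin.rev l) z)
    (fun a b hba => by
      rw [Matrix.add_apply, Matrix.add_apply, Matrix.single_apply, Matrix.single_apply, Matrix.single_apply, if_neg, if_neg, if_neg,
        add_zero, add_zero]
      · rintro ⟨rfl, rfl⟩; exact (hlk.trans hkl).not_ge hba
      · rintro ⟨rfl, rfl⟩; exact hkl.not_ge hba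
      · rintro ⟨rfl, rfl⟩; exact hlk.not_ge hba) (by
    simp only [Matrix.transpose_add, Matrix.transpose_single, map_add, phi_single, add_mul, mul_add, single_mul_mat,
      mat_mul_single, hk, Matrix.single_mul_single_of_ne _ _ _ _ (hlk.trans hkl).ne',
      Matrix.single_mul_single_of_ne _ _ _ _ hlk.ne', Matrix.single_mul_single_of_ne _ _ _ _ hkl.ne',
      Matrix.single_mul_single_same, add_zero, zero_add]
    calc _ = Matrix.single k (Fin.rev l) (x * M.eps l + M.eps k * M.phi y) +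
          Matrix.single (Fin.rev l) k (y * M.eps k + M.eps (Fin.rev l) * M.phi x) +
          Matrix.single (Fin.rev l) (Fin.rev l) (z * M.eps l + M.eps (Fin.rev l) * M.phi z + y * M.eps k * M.phi y) := by
            simp only [Matrix.single_add]; abel
      _ = 0 := by rw [h1, h2, h3, Matrix.single_zero, Matrix.single_zero, Matrix.single_zero, add_zero, add_zero])
  refine ⟨u, hu, k, Fin.rev l, ?_, ?_⟩
  · rw [hval _ _ hkl.ne, Matrix.add_apply, Matrix.add_apply, Matrix.single_apply_same,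
      Matrix.single_apply, Matrix.single_apply, if_neg (fun h => hlk.ne h.1), if_neg (fun h => hlk.ne h.1)]
    simpa using hy
  · rw [flipPair, swap_apply_right, swap_apply_of_ne_of_ne hlk.ne' hkl.ne]; exact hlk

end AForm

end Cfsg.Agent.Lib.ClassicalBN

namespace Cfsg.Agent.Lib.ClassicalBN

universe u v

variable {F : Type v} [Field F] [Finite F] {N : ℕ}

theorem Frame.grp_eq_of_full {G : Subgroup (GL (Fin N) F)} {S : Set (GL (Fin N) F)}
    (fr : Frame G (G ⊓ mono N F) S) (hG : NForm G) : fr.grp = G := by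
  refine le_antisymm fr.grp_le fun g hg => ?_
  obtain ⟨u, hu, n, hn, u', hu', e, -⟩ := hG g hg
  rw [e]
  exact Subgroup.mul_mem _ (Subgroup.mul_mem _ (fr.uni_le hu) (fr.N_le hn)) (fr.uni_le hu')

/-- Transfer to an abstract group. -/
theorem steinberg_of_hom {X : Type u} [Group X] [Finite X] {p : ℕ} [Fact p.Prime] [CharP F p]
    {G N₀ : Subgroup (GL (Fin N) F)} {S : Set (GL (Fin N) F)} (fr : Frame G N₀ S)
    (f : X →* GL (Fin N) F) (hf : Function.Injective f) (hrange : fr.grp ≤ f.range) (X₀ : Subgroup X)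
    (hX₀ : ∀ x, x ∈ X₀ ↔ f x ∈ fr.grp) (Y : Subgroup X₀) [Y.Normal]
    (hY : ∀ x : X₀, f x ∈ G ⊓ uni N F → x ∈ Y) :
    ∃ χ : Y ⧸ Subgroup.center Y → ℂ, Cfsg.IsIrrCharacter (Y ⧸ Subgroup.center Y) χ ∧
      ∀ Q : Sylow p (Y ⧸ Subgroup.center Y), χ 1 = Nat.card Q ∧ ∀ x, x ∈ Q → x ≠ 1 → χ x = 0 := by
  -- lift the frame group to the abstract universe
  let e : X₀ →* fr.grp :=
    { toFun := fun x => ⟨f x, (hX₀ x).1 x.2⟩
      map_one' := Subtype.ext (map_one f)
      map_mul' := fun a b => Subtype.ext (map_mul f (a : X) b) }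
  have hinj : Function.Injective e := fun a b h => Subtype.ext (hf (congrArg Subtype.val h))
  have hsurj : Function.Surjective e := fun g => by
    obtain ⟨x, hx⟩ := hrange g.2
    exact ⟨⟨x, (hX₀ x).2 (hx ▸ g.2)⟩, Subtype.ext hx⟩
  obtain ⟨E, hE⟩ : ∃ E : fr.grp ≃* X₀, E = (MulEquiv.ofBijective e ⟨hinj, hsurj⟩).symm := ⟨_, rfl⟩
  exact Split.exists_steinberg_central_equiv fr.split E Y fun x hx => hY x (by
    obtain ⟨g, hg, rfl⟩ := hx
    have : e (E g) = g := by rw [hE]; exact (MulEquiv.ofBijective e ⟨hinj, hsurj⟩).apply_symm_apply g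
    have h2 : f (E g : X₀) = (g : GL (Fin N) F) := congrArg Subtype.val this
    show f ((E g : X₀) : X) ∈ G ⊓ uni N F
    rw [h2]; exact hg)

end Cfsg.Agent.Lib.ClassicalBN
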