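import Mathlib
import Cfsg.Prelude.Def_Characters
import Cfsg.Agent.Lib.Characters.Basic

/-!
Steinberg characters pulled back along epimorphisms with kernel of order prime to `p`.
-/

set_option autoImplicit false

namespace Cfsg.Agent.Lib.ClassicalBN

universe u w

/-- Pulling back along an epimorphism whose kernel has order prime to `p`. -/
theorem steinberg_pullback {G : Type u} [Group G] [Finite G] {H : Type w} [Group H] {p : ℕ} [Fact p.Prime]
    (π : G →* H) (hπ : Function.Surjective π) (hker : ¬ p ∣ Nat.card π.ker)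
    (h : ∃ χ : H → ℂ, Cfsg.IsIrrCharacter H χ ∧ ∀ P : Sylow p H, χ 1 = Nat.card P ∧ ∀ x : H, x ∈ P → x ≠ 1 → χ x = 0) :
    ∃ χ : G → ℂ, Cfsg.IsIrrCharacter G χ ∧ ∀ P : Sylow p G, χ 1 = Nat.card P ∧ ∀ x : G, x ∈ P → x ≠ 1 → χ x = 0 := by
  obtain ⟨χ, hirr, hχ⟩ := h
  haveI : Finite H := Finite.of_surjective π hπ
  refine ⟨χ ∘ π, Characters.IsIrrCharacter.comp_surjective hirr π hπ, fun P => ?_⟩
  have hinj : ∀ x ∈ (P : Subgroup G), π x = 1 → x = 1 := fun x hx h1 => by
    rw [← orderOf_eq_one_iff]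
    obtain ⟨k, hk⟩ := P.isPGroup' ⟨x, hx⟩
    refine Nat.eq_one_of_dvd_coprimes (((Fact.out : p.Prime).coprime_iff_not_dvd.2 hker).pow_left k) ?_ ?_
    · exact orderOf_dvd_of_pow_eq_one (by simpa using congrArg Subtype.val hk)
    · have := orderOf_dvd_natCard (⟨x, h1⟩ : π.ker)
      rwa [← Subgroup.orderOf_coe] at this
  have hcard : Nat.card (P.mapSurjective hπ : Subgroup H) = Nat.card (P : Subgroup G) := by
    refine (Nat.card_congr (Equiv.ofBijective (fun x : (P : Subgroup G) => (⟨π x, ?_⟩ : (P.mapSurjective hπ : Subgroup H))) ⟨?_, ?_⟩)).symm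
    · exact ⟨x, x.2, rfl⟩
    · intro a b hab
      have h1 : π a = π b := congrArg Subtype.val hab
      have := hinj _ (mul_mem (inv_mem a.2) b.2) (by rw [map_mul, map_inv, h1, inv_mul_cancel])
      exact Subtype.ext (inv_mul_eq_one.1 this)
    · rintro ⟨y, x, hx, rfl⟩
      exact ⟨⟨x, hx⟩, rfl⟩
  obtain ⟨h1, h2⟩ := hχ (P.mapSurjective hπ)
  refine ⟨?_, fun x hx hx1 => h2 (π x) ⟨x, hx, rfl⟩ fun h => hx1 (hinj x hx h)⟩
  show χ (π 1) = _
  rw [map_one, h1, hcard]

end Cfsg.Agent.Lib.ClassicalBN
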