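import Mathlib
import Cfsg.Prelude.Def_LieClassical
import Cfsg.Agent.Lib.Classical.SLTwo
import Cfsg.Agent.Lib.OddChar.SteinbergSLn
import Cfsg.Agent.Lib.ClassicalBN.Pullback
import Cfsg.Agent.Lib.ClassicalBN.Commutator
import Cfsg.Agent.S2566

/-!
The hyperbolic four space over the field with two elements.
-/

set_option autoImplicit false

namespace Cfsg.Agent.Lib.ClassicalBN

open Cfsg.Agent.Lib
open scoped Matrix

universe v

theorem two_mul_two_commutative {X : Type*} [Group X] [Finite X] (h : Nat.card X = 4) : ∀ a b : X, a * b = b * a := by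
  haveI : Fact (Nat.Prime 2) := ⟨Nat.prime_two⟩
  letI := IsPGroup.commGroupOfCardEqPrimeSq (p := 2) (G := X) h
  exact mul_comm

theorem pomega_four_two_steinberg :
    ∃ χ : Cfsg.POmega (ZMod 2) (Cfsg.quadFormPlus 2 (ZMod 2)) → ℂ,
      Cfsg.IsIrrCharacter (Cfsg.POmega (ZMod 2) (Cfsg.quadFormPlus 2 (ZMod 2))) χ ∧
      ∀ P : Sylow 2 (Cfsg.POmega (ZMod 2) (Cfsg.quadFormPlus 2 (ZMod 2))), χ 1 = Nat.card P ∧
        ∀ x : Cfsg.POmega (ZMod 2) (Cfsg.quadFormPlus 2 (ZMod 2)), x ∈ P → x ≠ 1 → χ x = 0 := by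
  classical
  obtain ⟨h72, A, B, ⟨eA⟩, ⟨eB⟩, hAB, hcomm, hidx, g, hg⟩ := Cfsg.Agent.S2566.result
  obtain ⟨φ, hφd⟩ : ∃ φ : Equiv.Perm (Fin 3) × Equiv.Perm (Fin 3) →*
      Cfsg.isometryGroup (ZMod 2) (Cfsg.quadFormPlus 2 (ZMod 2)),
      ∀ x, φ x = (eA.symm x.1).1 * (eB.symm x.2).1 :=
    ⟨(A.subtype.comp eA.symm.toMonoidHom).noncommCoprod (B.subtype.comp eB.symm.toMonoidHom)
      (fun s t => hcomm _ (eA.symm s).2 _ (eB.symm t).2), fun x => rfl⟩
  have hφ : Function.Injective φ := by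
    rw [← MonoidHom.ker_eq_bot_iff, eq_bot_iff]
    rintro ⟨s, t⟩ hst
    rw [MonoidHom.mem_ker, hφd] at hst
    have h1 : ((eA.symm s).1 : Cfsg.isometryGroup (ZMod 2) (Cfsg.quadFormPlus 2 (ZMod 2))) ∈ A ⊓ B :=
      ⟨(eA.symm s).2, by rw [eq_inv_of_mul_eq_one_left hst]; exact B.inv_mem (eB.symm t).2⟩
    rw [hAB, Subgroup.mem_bot] at h1
    rw [h1, one_mul] at hst
    have es : s = 1 := eA.symm.injective (Subtype.ext (by rw [h1, map_one]; rfl))
    have et : t = 1 := eB.symm.injective (Subtype.ext (by rw [hst, map_one]; rfl))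
    rw [es, et]; rfl
  have hrange : φ.range = A ⊔ B := by
    refine le_antisymm ?_ (sup_le (fun a ha => ⟨(eA ⟨a, ha⟩, 1), ?_⟩) fun b hb => ⟨(1, eB ⟨b, hb⟩), ?_⟩)
    · rintro _ ⟨x, rfl⟩
      rw [hφd]
      exact Subgroup.mul_mem_sup (eA.symm x.1).2 (eB.symm x.2).2
    · rw [hφd]; simp
    · rw [hφd]; simp
  -- pairs of equal sign
  obtain ⟨D, hD⟩ : ∃ D : Subgroup (Equiv.Perm (Fin 3) × Equiv.Perm (Fin 3)),
      D = ((Equiv.Perm.sign.comp (MonoidHom.fst _ _)) * (Equiv.Perm.sign.comp (MonoidHom.snd _ _))).ker := ⟨_, rfl⟩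
  have hDmem : ∀ x, x ∈ D ↔ Equiv.Perm.sign x.1 * Equiv.Perm.sign x.2 = 1 := fun x => by rw [hD]; rfl
  have hgx : ∀ s : Equiv.Perm (Fin 3), ∃ t, g * φ (s, 1) * g⁻¹ = φ (1, t) := fun s => by
    have h1 : g * φ (s, 1) * g⁻¹ ∈ B := by
      rw [← hg]
      exact ⟨φ (s, 1), by rw [hφd]; simp, rfl⟩
    exact ⟨eB ⟨_, h1⟩, by rw [hφd (1, eB ⟨_, h1⟩)]; simp⟩
  have hH : ∀ (H : Subgroup (Cfsg.isometryGroup (ZMod 2) (Cfsg.quadFormPlus 2 (ZMod 2)))), H = A ⊔ B → g ∉ H := by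
    intro H hH hgH
    rw [hH, ← hrange] at hgH
    obtain ⟨y, hy⟩ := hgH
    obtain ⟨t, ht⟩ := hgx (Equiv.swap 0 1)
    rw [← hy, ← map_inv, ← map_mul, ← map_mul] at ht
    have h2 := congrArg Prod.fst (hφ ht)
    simp only [Prod.fst_mul, Prod.fst_inv] at h2
    have h3 := congrArg Equiv.Perm.sign h2
    rw [map_mul, map_mul, map_inv, map_one, mul_comm, ← mul_assoc, inv_mul_cancel, one_mul,
      Equiv.Perm.sign_swap (by decide)] at h3
    exact absurd h3 (by decide)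
  have hgH : g ∉ A ⊔ B := hH _ rfl
  haveI hHn : (A ⊔ B).Normal := Subgroup.normal_of_index_eq_two hidx
  have hg2 : g * g ∈ A ⊔ B := Subgroup.mul_self_mem_of_index_two hidx g
  -- conjugation by g respects the pairs of equal sign
  have hsgn : ∀ x, g * φ x * g⁻¹ ∈ φ.range ∧ ∀ y, φ y = g * φ x * g⁻¹ →
      Equiv.Perm.sign y.1 * Equiv.Perm.sign y.2 = Equiv.Perm.sign x.1 * Equiv.Perm.sign x.2 := by
    intro x
    have hxr : g * φ x * g⁻¹ ∈ φ.range := by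
      rw [hrange]
      exact hHn.conj_mem _ (hrange ▸ ⟨x, rfl⟩) g
    refine ⟨hxr, ?_⟩
    obtain ⟨γ, hγ⟩ : ∃ γ : Equiv.Perm (Fin 3) × Equiv.Perm (Fin 3) →* Equiv.Perm (Fin 3) × Equiv.Perm (Fin 3),
        ∀ x, φ (γ x) = g * φ x * g⁻¹ := by
      have hm : ∀ x, g * φ x * g⁻¹ ∈ φ.range := fun x => by
        rw [hrange]
        exact hHn.conj_mem _ (hrange ▸ ⟨x, rfl⟩) g
      choose f hf using hm
      exact ⟨MonoidHom.mk' f fun a b => hφ (by rw [map_mul, hf, hf, hf, map_mul]; group), hf⟩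
    intro y hy
    rw [show y = γ x from hφ (hy.trans (hγ x).symm)]
    obtain ⟨ε, hε⟩ : ∃ ε : Equiv.Perm (Fin 3) × Equiv.Perm (Fin 3) →* ℤˣ,
        ∀ z, ε z = Equiv.Perm.sign z.1 * Equiv.Perm.sign z.2 :=
      ⟨(Equiv.Perm.sign.comp (MonoidHom.fst _ _)) * (Equiv.Perm.sign.comp (MonoidHom.snd _ _)), fun z => rfl⟩
    have key : ∀ h : Equiv.Perm (Fin 3) →* ℤˣ, Function.Surjective h → h = Equiv.Perm.sign := fun h hh =>
      Equiv.Perm.eq_sign_of_surjective_hom hh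
    obtain ⟨t, ht⟩ := hgx (Equiv.swap 0 1)
    obtain ⟨r, hr⟩ : ∃ r : Equiv.Perm (Fin 3), φ (r, 1) = g * φ (1, Equiv.swap 0 1) * g⁻¹ := by
      have h1 : g⁻¹⁻¹ * φ (1, Equiv.swap 0 1) * g⁻¹ ∈ A := by
        have h2 : φ (1, Equiv.swap 0 1) ∈ B := by rw [hφd]; simp
        rw [← hg] at h2
        obtain ⟨a, ha, hae⟩ := h2
        have h3 : g⁻¹⁻¹ * φ (1, Equiv.swap 0 1) * g⁻¹ = (g * g) * a * (g * g)⁻¹ := by
          rw [← hae]; show g⁻¹⁻¹ * (g * a * g⁻¹) * g⁻¹ = _; group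
        rw [h3]
        rw [← hrange] at hg2
        obtain ⟨z, hz⟩ := hg2
        rw [← hz, show a = φ (eA ⟨a, ha⟩, 1) by rw [hφd]; simp, ← map_inv, ← map_mul, ← map_mul, hφd]
        simp
        exact A.mul_mem (A.mul_mem (SetLike.coe_mem _) ha) (A.inv_mem (SetLike.coe_mem _))
      rw [inv_inv] at h1
      exact ⟨eA ⟨_, h1⟩, by rw [hφd]; simp⟩
    have e1 : γ (Equiv.swap 0 1, 1) = (1, t) := hφ (by rw [hγ, ht])
    have e2 : γ (1, Equiv.swap 0 1) = (r, 1) := hφ (by rw [hγ, hr])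
    have hne : ∀ u : Equiv.Perm (Fin 3), u * u = 1 → u ≠ 1 → Equiv.Perm.sign u = -1 := by decide
    have ht1 : Equiv.Perm.sign t = -1 := hne t (by
        have := congrArg Prod.snd (show γ (Equiv.swap 0 1, 1) * γ (Equiv.swap 0 1, 1) = 1 by
          rw [← map_mul, Prod.mk_mul_mk, Equiv.swap_mul_self, one_mul]; exact map_one γ)
        rwa [e1] at this) fun h => by
      rw [h] at e1
      have h4 : φ (Equiv.swap 0 1, 1) = φ 1 := by
        have := hγ (Equiv.swap 0 1, 1)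
        rw [e1, show ((1 : Equiv.Perm (Fin 3)), (1 : Equiv.Perm (Fin 3))) = 1 from rfl, map_one] at this
        rw [map_one]
        calc φ (Equiv.swap 0 1, 1) = g⁻¹ * (g * φ (Equiv.swap 0 1, 1) * g⁻¹) * g := by group
          _ = 1 := by rw [← this]; group
      exact absurd (congrArg Prod.fst (hφ h4)) (by decide)
    have hr1 : Equiv.Perm.sign r = -1 := hne r (by
        have := congrArg Prod.fst (show γ (1, Equiv.swap 0 1) * γ (1, Equiv.swap 0 1) = 1 by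
          rw [← map_mul, Prod.mk_mul_mk, Equiv.swap_mul_self, one_mul]; exact map_one γ)
        rwa [e2] at this) fun h => by
      rw [h] at e2
      have h4 : φ (1, Equiv.swap 0 1) = φ 1 := by
        have := hγ (1, Equiv.swap 0 1)
        rw [e2, show ((1 : Equiv.Perm (Fin 3)), (1 : Equiv.Perm (Fin 3))) = 1 from rfl, map_one] at this
        rw [map_one]
        calc φ (1, Equiv.swap 0 1) = g⁻¹ * (g * φ (1, Equiv.swap 0 1) * g⁻¹) * g := by group
          _ = 1 := by rw [← this]; group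
      exact absurd (congrArg Prod.snd (hφ h4)) (by decide)
    have k1 := key ((ε.comp γ).comp (MonoidHom.inl _ _)) fun u => by
      rcases Int.units_eq_one_or u with rfl | rfl
      · exact ⟨1, map_one _⟩
      · exact ⟨Equiv.swap 0 1, by simp [e1, hε, ht1]⟩
    have k2 := key ((ε.comp γ).comp (MonoidHom.inr _ _)) fun u => by
      rcases Int.units_eq_one_or u with rfl | rfl
      · exact ⟨1, map_one _⟩
      · exact ⟨Equiv.swap 0 1, by simp [e2, hε, hr1]⟩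
    rw [← hε, ← DFunLike.congr_fun k1 x.1, ← DFunLike.congr_fun k2 x.2]
    show ε (γ x) = ε (γ (x.1, 1)) * ε (γ (1, x.2))
    rw [← map_mul, ← map_mul]
    simp
  have hKn : (D.map φ).Normal := by
    refine ⟨fun n hn h => ?_⟩
    obtain ⟨x, hx, rfl⟩ := hn
    have hcase : ∀ z, ∃ y ∈ D, φ y = φ z * φ x * (φ z)⁻¹ := fun z => ⟨z * x * z⁻¹, by
      rw [hD] at hx ⊢; exact (MonoidHom.normal_ker _).conj_mem x hx z, by rw [map_mul, map_mul, map_inv]⟩
    by_cases hh : h ∈ A ⊔ B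
    · rw [← hrange] at hh
      obtain ⟨z, rfl⟩ := hh
      exact hcase z
    · have h2 : h * g⁻¹ ∈ A ⊔ B := by
        rcases ((Subgroup.mul_mem_iff_of_index_two hidx (a := h) (b := g⁻¹)).2
          ⟨fun e => absurd e hh, fun e => absurd (inv_mem_iff.1 e) hgH⟩) with h'
        exact h'
      rw [← hrange] at h2
      obtain ⟨z, hz⟩ := h2
      obtain ⟨⟨y, hy⟩, hys⟩ := hsgn x
      refine ⟨z * y * z⁻¹, ?_, ?_⟩
      · have hyD : y ∈ D := by rw [hDmem, hys y hy]; exact (hDmem x).1 hx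
        rw [hD] at hyD ⊢
        exact (MonoidHom.normal_ker _).conj_mem y hyD z
      · rw [map_mul, map_mul, map_inv, hy, hz]; group
  have hcardD : Nat.card D = 18 := by
    have h1 : D.index = 2 := by
      rw [hD, Subgroup.index_ker, MonoidHom.range_eq_top.2 fun u => ?_]
      · rw [Nat.card_congr Subgroup.topEquiv.toEquiv]; simp [Fintype.card_units_int]
      · rcases Int.units_eq_one_or u with rfl | rfl
        · exact ⟨1, map_one _⟩
        · exact ⟨(Equiv.swap 0 1, 1), by decide⟩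
    have := D.card_mul_index
    rw [h1, Nat.card_prod, Nat.card_perm, Nat.card_fin] at this
    rw [show Nat.factorial 3 = 6 from rfl] at this
    exact Nat.eq_of_mul_eq_mul_right two_pos this
  have hKle : commutator (Cfsg.isometryGroup (ZMod 2) (Cfsg.quadFormPlus 2 (ZMod 2))) ≤ D.map φ := by
    have hq : Nat.card (Cfsg.isometryGroup (ZMod 2) (Cfsg.quadFormPlus 2 (ZMod 2)) ⧸ D.map φ) = 4 := by
      rw [← Subgroup.index_eq_card]
      have := (D.map φ).card_mul_index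
      rw [h72, ← Nat.card_congr (D.equivMapOfInjective φ hφ).toEquiv, hcardD] at this
      omega
    letI : CommGroup (Cfsg.isometryGroup (ZMod 2) (Cfsg.quadFormPlus 2 (ZMod 2)) ⧸ D.map φ) :=
      { (inferInstance : Group _) with mul_comm := two_mul_two_commutative hq }
    exact le_trans (Abelianization.commutator_subset_ker (QuotientGroup.mk' (D.map φ))) (le_of_eq (QuotientGroup.ker_mk' _))
  -- the projection
  have hle : Cfsg.Omega (ZMod 2) (Cfsg.quadFormPlus 2 (ZMod 2)) ≤ φ.range :=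
    hKle.trans (by rintro _ ⟨x, -, rfl⟩; exact ⟨x, rfl⟩)
  obtain ⟨π, hπd⟩ : ∃ π : Cfsg.Omega (ZMod 2) (Cfsg.quadFormPlus 2 (ZMod 2)) →* Equiv.Perm (Fin 3),
      ∀ (x : Cfsg.Omega (ZMod 2) (Cfsg.quadFormPlus 2 (ZMod 2))) (y : Equiv.Perm (Fin 3) × Equiv.Perm (Fin 3)),
        φ y = (x : Cfsg.isometryGroup (ZMod 2) (Cfsg.quadFormPlus 2 (ZMod 2))) → π x = y.1 := by
    refine ⟨(MonoidHom.fst _ _).comp ((MonoidHom.ofInjective hφ).symm.toMonoidHom.comp (Subgroup.inclusion hle)),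
      fun x y hy => ?_⟩
    show ((MonoidHom.ofInjective hφ).symm (Subgroup.inclusion hle x)).1 = y.1
    rw [show Subgroup.inclusion hle x = MonoidHom.ofInjective hφ y from Subtype.ext hy.symm, MulEquiv.symm_apply_apply]
  have hsurj : Function.Surjective π := fun s => by
    obtain ⟨t, ht⟩ := hgx s⁻¹
    have hmem : φ (s, t) ∈ Cfsg.Omega (ZMod 2) (Cfsg.quadFormPlus 2 (ZMod 2)) := by
      have h1 : φ (s, t) = g * φ (s⁻¹, 1) * g⁻¹ * (φ (s⁻¹, 1))⁻¹ := by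
        rw [ht, ← map_inv, ← map_mul]
        simp
      rw [h1, ← commutatorElement_def]
      exact Subgroup.commutator_mem_commutator (Subgroup.mem_top _) (Subgroup.mem_top _)
    exact ⟨⟨_, hmem⟩, hπd ⟨_, hmem⟩ (s, t) rfl⟩
  have hodd : ∀ x ∈ π.ker, x * x * x = 1 := fun x hx => by
    obtain ⟨y, hy, hyx⟩ := hKle x.2
    have h1 := hπd x y hyx
    rw [MonoidHom.mem_ker.1 hx] at h1
    rw [SetLike.mem_coe, hDmem, ← h1, map_one, one_mul] at hy
    have h3 : ∀ u : Equiv.Perm (Fin 3), Equiv.Perm.sign u = 1 → u * u * u = 1 := by decide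
    refine Subtype.ext ?_
    show (x : Cfsg.isometryGroup (ZMod 2) (Cfsg.quadFormPlus 2 (ZMod 2))) * x * x = 1
    rw [← hyx, ← map_mul, ← map_mul, ← φ.map_one]
    congr 1
    refine Prod.ext ?_ ?_
    · simp [← h1]
    · exact h3 _ hy
  have hcent : Subgroup.center (Cfsg.Omega (ZMod 2) (Cfsg.quadFormPlus 2 (ZMod 2))) ≤ π.ker := fun z hz => by
    have hc : ∀ u : Equiv.Perm (Fin 3), (∀ v, v * u = u * v) → u = 1 := by decide
    refine hc _ fun v => ?_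
    obtain ⟨w, rfl⟩ := hsurj v
    rw [← map_mul, ← map_mul, Subgroup.mem_center_iff.1 hz w]
  obtain ⟨e⟩ := Classical.nonempty_SL2_two (F := ZMod 2) (ZMod.card 2)
  obtain ⟨ρ, hρ⟩ : ∃ ρ : Cfsg.POmega (ZMod 2) (Cfsg.quadFormPlus 2 (ZMod 2)) →*
      Matrix.ProjectiveSpecialLinearGroup (Fin 2) (ZMod 2),
      ∀ x, ρ (QuotientGroup.mk x) = QuotientGroup.mk (e.symm (π x)) :=
    ⟨(QuotientGroup.mk' _).comp (e.symm.toMonoidHom.comp (QuotientGroup.lift _ π hcent)), fun x => rfl⟩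
  refine steinberg_pullback ρ (fun y => ?_) ?_ (OddChar.psl_steinberg 2)
  · obtain ⟨s, rfl⟩ := QuotientGroup.mk_surjective y
    obtain ⟨x, hx⟩ := hsurj (e s)
    exact ⟨QuotientGroup.mk x, by rw [hρ, hx, MulEquiv.symm_apply_apply]⟩
  · intro h2
    haveI : Fact (Nat.Prime 2) := ⟨Nat.prime_two⟩
    obtain ⟨z, hz⟩ := exists_prime_orderOf_dvd_card' 2 h2
    obtain ⟨x, hx⟩ := QuotientGroup.mk_surjective (z : Cfsg.POmega (ZMod 2) (Cfsg.quadFormPlus 2 (ZMod 2)))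
    have hker : x ∈ π.ker := by
      have h3 : ρ (QuotientGroup.mk x) = 1 := by rw [hx]; exact z.2
      rw [hρ, QuotientGroup.eq_one_iff, Subgroup.mem_center_iff] at h3
      have hc : ∀ u : Equiv.Perm (Fin 3), (∀ v, v * u = u * v) → u = 1 := by decide
      refine hc _ fun v => ?_
      have := congrArg e (h3 (e.symm v))
      simpa using this
    have hz3 : z ^ 3 = 1 := Subtype.ext (by
      rw [Subgroup.coe_pow, ← hx, ← QuotientGroup.mk_pow, pow_succ, pow_two, hodd x hker]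
      rfl)
    have h5 := orderOf_dvd_of_pow_eq_one hz3
    rw [hz] at h5
    norm_num at h5

end Cfsg.Agent.Lib.ClassicalBN

namespace Cfsg.Agent.Lib.ClassicalBN

open scoped Matrix

universe v'

/-- The same over any field with two elements. -/
theorem pomega_four_two_steinberg' {F : Type v'} [Field F] [Fintype F] (hF : Fintype.card F = 2) :
    ∃ χ : Cfsg.POmega F (Cfsg.quadFormPlus 2 F) → ℂ,
      Cfsg.IsIrrCharacter (Cfsg.POmega F (Cfsg.quadFormPlus 2 F)) χ ∧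
      ∀ P : Sylow 2 (Cfsg.POmega F (Cfsg.quadFormPlus 2 F)), χ 1 = Nat.card P ∧
        ∀ x : Cfsg.POmega F (Cfsg.quadFormPlus 2 F), x ∈ P → x ≠ 1 → χ x = 0 := by
  classical
  haveI : Finite (Cfsg.isometryGroup F (Cfsg.quadFormPlus 2 F)) := Subtype.finite
  haveI : Finite (Cfsg.POmega F (Cfsg.quadFormPlus 2 F)) := inferInstanceAs (Finite (_ ⧸ _))
  obtain ⟨ψ, -⟩ : ∃ ψ : ZMod 2 ≃+* F, ψ = ψ := ⟨ZMod.ringEquivOfPrime F Nat.prime_two hF, rfl⟩
  obtain ⟨T, hT⟩ : ∃ T : GL (Fin 2 ⊕ Fin 2) F ≃* GL (Fin 2 ⊕ Fin 2) (ZMod 2), ∀ g : GL (Fin 2 ⊕ Fin 2) F,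
      (T g : Matrix (Fin 2 ⊕ Fin 2) (Fin 2 ⊕ Fin 2) (ZMod 2)) = (g : Matrix (Fin 2 ⊕ Fin 2) (Fin 2 ⊕ Fin 2) F).map ψ.symm :=
    ⟨Units.mapEquiv (ψ.symm.mapMatrix (m := Fin 2 ⊕ Fin 2)).toMulEquiv, fun g => rfl⟩
  have key : ∀ (g : GL (Fin 2 ⊕ Fin 2) F) (u : Fin 2 ⊕ Fin 2 → F),
      Cfsg.quadFormPlus 2 (ZMod 2) ((T g : Matrix (Fin 2 ⊕ Fin 2) (Fin 2 ⊕ Fin 2) (ZMod 2)) *ᵥ (ψ.symm ∘ u)) =
        ψ.symm (Cfsg.quadFormPlus 2 F ((g : Matrix (Fin 2 ⊕ Fin 2) (Fin 2 ⊕ Fin 2) F) *ᵥ u)) ∧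
      Cfsg.quadFormPlus 2 (ZMod 2) (ψ.symm ∘ u) = ψ.symm (Cfsg.quadFormPlus 2 F u) := fun g u => by
    refine ⟨?_, by simp [Cfsg.quadFormPlus]⟩
    simp only [Cfsg.quadFormPlus, map_sum, map_mul, hT]
    refine Finset.sum_congr rfl fun i _ => ?_
    exact congrArg₂ (· * ·) (RingHom.map_mulVec ψ.symm.toRingHom _ u _).symm (RingHom.map_mulVec ψ.symm.toRingHom _ u _).symm
  have hmap : (Cfsg.isometryGroup F (Cfsg.quadFormPlus 2 F)).map T.toMonoidHom =
      Cfsg.isometryGroup (ZMod 2) (Cfsg.quadFormPlus 2 (ZMod 2)) := by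
    ext g
    rw [Subgroup.mem_map_equiv]
    constructor
    · intro hg u _
      show Cfsg.quadFormPlus 2 (ZMod 2) _ = Cfsg.quadFormPlus 2 (ZMod 2) u
      have h1 := key (T.symm g) (ψ ∘ u)
      rw [T.apply_symm_apply, ← Function.comp_assoc, show (ψ.symm : F → ZMod 2) ∘ ψ = id from funext ψ.symm_apply_apply,
        Function.id_comp] at h1
      exact h1.1.trans ((congrArg ψ.symm (hg (ψ ∘ u) (ψ ∘ u))).trans h1.2.symm)
    · intro hg u _
      show Cfsg.quadFormPlus 2 F _ = Cfsg.quadFormPlus 2 F u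
      have h1 := key (T.symm g) u
      rw [T.apply_symm_apply] at h1
      exact ψ.symm.injective (h1.1.symm.trans ((hg (ψ.symm ∘ u) (ψ.symm ∘ u)).trans h1.2))
  obtain ⟨E, -⟩ : ∃ E : Cfsg.isometryGroup F (Cfsg.quadFormPlus 2 F) ≃*
      Cfsg.isometryGroup (ZMod 2) (Cfsg.quadFormPlus 2 (ZMod 2)), E = E :=
    ⟨((Cfsg.isometryGroup F _).equivMapOfInjective T.toMonoidHom T.injective).trans (MulEquiv.subgroupCongr hmap), rfl⟩
  have hcom : (Cfsg.Omega F (Cfsg.quadFormPlus 2 F)).map E.toMonoidHom = Cfsg.Omega (ZMod 2) (Cfsg.quadFormPlus 2 (ZMod 2)) := by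
    rw [Cfsg.Omega, Cfsg.Omega, commutator_def, commutator_def, Subgroup.map_commutator,
      Subgroup.map_top_of_surjective _ E.surjective]
  obtain ⟨E₁, -⟩ : ∃ E₁ : Cfsg.Omega F (Cfsg.quadFormPlus 2 F) ≃* Cfsg.Omega (ZMod 2) (Cfsg.quadFormPlus 2 (ZMod 2)), E₁ = E₁ :=
    ⟨((Cfsg.Omega F _).equivMapOfInjective E.toMonoidHom E.injective).trans (MulEquiv.subgroupCongr hcom), rfl⟩
  have hc : (Subgroup.center (Cfsg.Omega F (Cfsg.quadFormPlus 2 F))).map E₁.toMonoidHom =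
      Subgroup.center (Cfsg.Omega (ZMod 2) (Cfsg.quadFormPlus 2 (ZMod 2))) := by
    ext z
    rw [Subgroup.mem_map_equiv, Subgroup.mem_center_iff, Subgroup.mem_center_iff]
    refine ⟨fun h x => ?_, fun h x => E₁.injective (by rw [map_mul, map_mul, E₁.apply_symm_apply]; exact h _)⟩
    have := congrArg E₁ (h (E₁.symm x))
    simpa using this
  obtain ⟨E₂, -⟩ : ∃ E₂ : Cfsg.POmega F (Cfsg.quadFormPlus 2 F) ≃* Cfsg.POmega (ZMod 2) (Cfsg.quadFormPlus 2 (ZMod 2)), E₂ = E₂ :=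
    ⟨QuotientGroup.congr _ _ E₁ hc, rfl⟩
  refine steinberg_pullback E₂.toMonoidHom E₂.surjective ?_ pomega_four_two_steinberg
  rw [(MonoidHom.ker_eq_bot_iff E₂.toMonoidHom).2 E₂.injective, Subgroup.card_bot]
  exact Nat.prime_two.not_dvd_one

end Cfsg.Agent.Lib.ClassicalBN
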